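import Cfsg.Agent.Lib.O8Three.Cube.Data
import Mathlib.GroupTheory.QuotientGroup.Basic
import Mathlib.GroupTheory.Index
import Mathlib.GroupTheory.PGroup
import Mathlib.Tactic.Group
import Mathlib.Tactic.IntervalCases
import Mathlib.Tactic.NormNum

/-!
S3372: the coordinates, the quotient by the involution and the groups of order eight at the elements of weight
three.
-/

set_option autoImplicit false
set_option linter.style.haveILetI false
set_option linter.unusedSectionVars false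

namespace Cfsg.Agent.O8Three.Cube

open Subgroup

theorem inv_eq_sq {H : Type*} [Group H] {a : H} (h : a ^ 3 = 1) : a⁻¹ = a ^ 2 := by
  rw [inv_eq_iff_mul_eq_one, ← pow_succ', h]

theorem pw_ne (s : Bool) : ¬ 3 ∣ pw s := by cases s <;> decide

namespace Data

variable {H : Type*} [Group H] (D : Data H)

theorem zc (h : H) : D.z * h = h * D.z := (D.central h).symm

theorem pcomm (i j : Fin 3) (a b : ℕ) : Commute (D.e i ^ a) (D.e j ^ b) :=
  Commute.pow_pow (D.comm i j) a b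

/-- The element with given coordinates. -/
def ev (a b c : ℕ) : H := D.e 0 ^ a * D.e 1 ^ b * D.e 2 ^ c

theorem ev_mul (a b c a' b' c' : ℕ) : D.ev a b c * D.ev a' b' c' = D.ev (a + a') (b + b') (c + c') := by
  unfold ev
  have h1 : D.e 1 ^ b * D.e 0 ^ a' = D.e 0 ^ a' * D.e 1 ^ b := D.pcomm 1 0 b a'
  have h2 : D.e 2 ^ c * D.e 0 ^ a' = D.e 0 ^ a' * D.e 2 ^ c := D.pcomm 2 0 c a'
  have h3 : D.e 2 ^ c * D.e 1 ^ b' = D.e 1 ^ b' * D.e 2 ^ c := D.pcomm 2 1 c b'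
  calc D.e 0 ^ a * D.e 1 ^ b * D.e 2 ^ c * (D.e 0 ^ a' * D.e 1 ^ b' * D.e 2 ^ c')
      = D.e 0 ^ a * D.e 1 ^ b * (D.e 2 ^ c * D.e 0 ^ a') * D.e 1 ^ b' * D.e 2 ^ c' := by group
    _ = D.e 0 ^ a * (D.e 1 ^ b * D.e 0 ^ a') * (D.e 2 ^ c * D.e 1 ^ b') * D.e 2 ^ c' := by rw [h2]; group
    _ = (D.e 0 ^ a * D.e 0 ^ a') * (D.e 1 ^ b * D.e 1 ^ b') * (D.e 2 ^ c * D.e 2 ^ c') := by rw [h1, h3]; group
    _ = _ := by rw [← pow_add, ← pow_add, ← pow_add]

theorem e_mod (i : Fin 3) (a : ℕ) : D.e i ^ a = D.e i ^ (a % 3) := by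
  conv_lhs => rw [← Nat.div_add_mod a 3, pow_add, pow_mul, D.cube, one_pow, one_mul]

theorem ev_mod (a b c : ℕ) : D.ev a b c = D.ev (a % 3) (b % 3) (c % 3) := by
  unfold ev
  rw [D.e_mod 0 a, D.e_mod 1 b, D.e_mod 2 c]

theorem ev_zero : D.ev 0 0 0 = 1 := by simp [ev]

theorem ev_eq_one {a b c : ℕ} : D.ev a b c = 1 ↔ 3 ∣ a ∧ 3 ∣ b ∧ 3 ∣ c := by
  rw [D.ev_mod]
  constructor
  · intro h
    obtain ⟨ha, hb, hc⟩ := D.indep _ _ _ (Nat.mod_lt _ (by norm_num)) (Nat.mod_lt _ (by norm_num))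
      (Nat.mod_lt _ (by norm_num)) h
    omega
  · rintro ⟨ha, hb, hc⟩
    rw [Nat.mod_eq_zero_of_dvd ha, Nat.mod_eq_zero_of_dvd hb, Nat.mod_eq_zero_of_dvd hc, D.ev_zero] <;> assumption

theorem ev_inv (a b c : ℕ) : (D.ev a b c)⁻¹ = D.ev (2 * a) (2 * b) (2 * c) :=
  inv_eq_of_mul_eq_one_right (by rw [D.ev_mul, D.ev_eq_one]; omega)

theorem ev_cube (a b c : ℕ) : D.ev a b c ^ 3 = 1 := by
  rw [pow_succ, pow_two, D.ev_mul, D.ev_mul, D.ev_eq_one]; omega

theorem ev_e0 (a : ℕ) : D.ev a 0 0 = D.e 0 ^ a := by simp [ev]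

theorem ev_e1 (a : ℕ) : D.ev 0 a 0 = D.e 1 ^ a := by simp [ev]

theorem ev_e2 (a : ℕ) : D.ev 0 0 a = D.e 2 ^ a := by simp [ev]

theorem mem_E {x : H} : x ∈ D.E ↔ ∃ a b c, x = D.ev a b c := by
  constructor
  · intro hx
    induction hx using Subgroup.closure_induction with
    | mem x hx =>
      obtain ⟨i, rfl⟩ := hx
      rcases i with ⟨_ | _ | _ | i, hi⟩
      · exact ⟨1, 0, 0, by rw [D.ev_e0, pow_one]; rfl⟩
      · exact ⟨0, 1, 0, by rw [D.ev_e1, pow_one]; rfl⟩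
      · exact ⟨0, 0, 1, by rw [D.ev_e2, pow_one]; rfl⟩
      · omega
    | one => exact ⟨0, 0, 0, D.ev_zero.symm⟩
    | mul x y _ _ hx hy =>
      obtain ⟨a, b, c, rfl⟩ := hx
      obtain ⟨a', b', c', rfl⟩ := hy
      exact ⟨_, _, _, D.ev_mul a b c a' b' c'⟩
    | inv x _ hx =>
      obtain ⟨a, b, c, rfl⟩ := hx
      exact ⟨_, _, _, D.ev_inv a b c⟩
  · rintro ⟨a, b, c, rfl⟩
    have hm : ∀ i, D.e i ∈ D.E := fun i => subset_closure (Set.mem_range_self i)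
    exact mul_mem (mul_mem (pow_mem (hm 0) _) (pow_mem (hm 1) _)) (pow_mem (hm 2) _)

theorem ev_mem (a b c : ℕ) : D.ev a b c ∈ D.E := D.mem_E.2 ⟨a, b, c, rfl⟩

theorem E_cube {x : H} (hx : x ∈ D.E) : x ^ 3 = 1 := by
  obtain ⟨a, b, c, rfl⟩ := D.mem_E.1 hx
  exact D.ev_cube a b c

theorem E_comm {x y : H} (hx : x ∈ D.E) (hy : y ∈ D.E) : x * y = y * x := by
  obtain ⟨a, b, c, rfl⟩ := D.mem_E.1 hx
  obtain ⟨a', b', c', rfl⟩ := D.mem_E.1 hy
  rw [D.ev_mul, D.ev_mul, add_comm a, add_comm b, add_comm c]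

theorem card_E : Nat.card D.E = 27 := by
  let f : Fin 3 × Fin 3 × Fin 3 → D.E := fun p => ⟨D.ev p.1 p.2.1 p.2.2, D.ev_mem _ _ _⟩
  have hf : Function.Bijective f := by
    constructor
    · rintro ⟨a, b, c⟩ ⟨a', b', c'⟩ h
      have h' : D.ev a b c * (D.ev a' b' c')⁻¹ = 1 := mul_inv_eq_one.2 (congrArg Subtype.val h)
      rw [D.ev_inv, D.ev_mul, D.ev_eq_one] at h'
      ext <;> simp only <;> omega
    · rintro ⟨x, hx⟩
      obtain ⟨a, b, c, rfl⟩ := D.mem_E.1 hx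
      exact ⟨(⟨a % 3, Nat.mod_lt _ (by norm_num)⟩, ⟨b % 3, Nat.mod_lt _ (by norm_num)⟩,
        ⟨c % 3, Nat.mod_lt _ (by norm_num)⟩), Subtype.ext (D.ev_mod a b c).symm⟩
  rw [← Nat.card_eq_of_bijective f hf]
  simp

/-- The group of order two. -/
def Z : Subgroup H where
  carrier := {x | x = 1 ∨ x = D.z}
  one_mem' := Or.inl rfl
  mul_mem' := by
    rintro a b (rfl | rfl) (rfl | rfl)
    · exact Or.inl (mul_one 1)
    · exact Or.inr (one_mul _)
    · exact Or.inr (mul_one _)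
    · exact Or.inl D.zz
  inv_mem' := by
    rintro a (rfl | rfl)
    · exact Or.inl inv_one
    · exact Or.inr (inv_eq_of_mul_eq_one_right D.zz)

theorem mem_Z {x : H} : x ∈ D.Z ↔ x = 1 ∨ x = D.z := Iff.rfl

theorem z_mem_Z : D.z ∈ D.Z := Or.inr rfl

instance Z_normal : D.Z.Normal :=
  ⟨fun x hx g => by
    rcases hx with rfl | rfl
    · exact Or.inl (by group)
    · exact Or.inr (by rw [D.central g, mul_inv_cancel_right])⟩

theorem card_Z : Nat.card D.Z = 2 := by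
  have e : (D.Z : Set H) = {1, D.z} := rfl
  rw [← SetLike.coe_sort_coe, Nat.card_coe_set_eq, e, Set.ncard_pair D.z_ne.symm]

/-- The projection modulo the involution. -/
def π : H →* H ⧸ D.Z := QuotientGroup.mk' D.Z

theorem π_eq_one {a : H} : D.π a = 1 ↔ a = 1 ∨ a = D.z :=
  (QuotientGroup.eq_one_iff a).trans D.mem_Z

theorem π_z : D.π D.z = 1 := D.π_eq_one.2 (Or.inr rfl)

theorem π_surj : Function.Surjective D.π := QuotientGroup.mk'_surjective _

theorem π_eq {a b : H} : D.π a = D.π b ↔ a = b ∨ a = b * D.z := by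
  rw [← inv_mul_eq_one, ← map_inv, ← map_mul, D.π_eq_one, inv_mul_eq_one]
  constructor
  · rintro (h | h)
    · exact Or.inl h
    · refine Or.inr ?_
      have h1 : b = a * D.z := by rw [← h]; group
      rw [h1, mul_assoc, D.zz, mul_one]
  · rintro (h | h)
    · exact Or.inl h
    · refine Or.inr ?_
      rw [h, mul_inv_rev, mul_assoc, inv_mul_cancel, mul_one]
      exact inv_eq_of_mul_eq_one_right D.zz

/-- An element of order three commuting modulo the involution commutes. -/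
theorem fix_lift {a b : H} (ha : a ^ 3 = 1) (h : D.π a * D.π b = D.π b * D.π a) : a * b = b * a := by
  rw [← map_mul, ← map_mul, D.π_eq] at h
  refine h.resolve_right fun e => ?_
  have e1 : a * b * a⁻¹ = b * D.z := by rw [e, mul_assoc (b * a), D.zc a⁻¹]; group
  rw [pow_succ, pow_two] at ha
  have e3 : a * a * a * b * (a * a * a)⁻¹ = b * D.z := by
    calc a * a * a * b * (a * a * a)⁻¹ = a * (a * (a * b * a⁻¹) * a⁻¹) * a⁻¹ := by group
      _ = a * (a * (b * D.z) * a⁻¹) * a⁻¹ := by rw [e1]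
      _ = a * (a * b * a⁻¹ * (a * D.z * a⁻¹)) * a⁻¹ := by group
      _ = a * b * a⁻¹ := by rw [e1, D.central a, mul_inv_cancel_right, mul_assoc b, D.zz, mul_one]; exact e1
      _ = _ := e1
  rw [ha, one_mul, inv_one, mul_one] at e3
  exact D.z_ne (mul_left_cancel (e3.symm.trans (mul_one b).symm))

/-- The order of a subgroup through the involution and of its image. -/
theorem card_map_π [Finite H] {K : Subgroup H} (hz : D.z ∈ K) : Nat.card K = 2 * Nat.card (K.map D.π) := by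
  have h : (D.π.comp K.subtype).range = K.map D.π := by rw [MonoidHom.range_comp, range_subtype]
  have hk : Nat.card (D.π.comp K.subtype).ker = 2 := by
    rw [← D.card_Z]
    refine Nat.card_congr
      ⟨fun x => ⟨x.1.1, D.mem_Z.2 (D.π_eq_one.1 x.2)⟩,
        fun x => ⟨⟨x.1, ?_⟩, D.π_eq_one.2 (D.mem_Z.1 x.2)⟩, fun _ => rfl, fun _ => rfl⟩
    rcases D.mem_Z.1 x.2 with h | h <;> rw [h]
    exacts [one_mem K, hz]
  rw [← card_mul_index (D.π.comp K.subtype).ker, hk, index_ker, h]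

/-- The group of order eight at an element of weight three. -/
noncomputable def W (s t : Bool) : Subgroup H := (D.three_core s t).choose

/-- The element of weight three. -/
def y (s t : Bool) : H := D.e 0 * D.e 1 ^ pw s * D.e 2 ^ pw t

theorem y_ev (s t : Bool) : D.y s t = D.ev 1 (pw s) (pw t) := by simp [y, ev]

theorem W_card (s t : Bool) : Nat.card (D.W s t) = 8 := (D.three_core s t).choose_spec.1

theorem z_mem_W (s t : Bool) : D.z ∈ D.W s t := (D.three_core s t).choose_spec.2.1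

theorem W_le (s t : Bool) : D.W s t ≤ centralizer ({D.y s t} : Set H) := (D.three_core s t).choose_spec.2.2.1

theorem W_norm {s t : Bool} {c x : H} (hc : c ∈ centralizer ({D.y s t} : Set H)) (hx : x ∈ D.W s t) :
    c * x * c⁻¹ ∈ D.W s t := (D.three_core s t).choose_spec.2.2.2.1 c hc x hx

theorem W_dec {s t : Bool} {c : H} (hc : c ∈ centralizer ({D.y s t} : Set H)) :
    ∃ w ∈ D.W s t, ∀ k, w⁻¹ * c * D.e k * (w⁻¹ * c)⁻¹ ∈ D.E :=
  (D.three_core s t).choose_spec.2.2.2.2.1 c hc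

theorem W_fix {s t : Bool} {x : H} (hx : x ∈ D.W s t) (h : D.e 0 * x = x * D.e 0) : x = 1 ∨ x = D.z :=
  (D.three_core s t).choose_spec.2.2.2.2.2.1 x hx h

theorem W_act1 {s t : Bool} {x : H} (hx : x ∈ D.W s t) :
    D.e 1 * x * (D.e 1)⁻¹ = D.e 0 ^ pw s * x * (D.e 0 ^ pw s)⁻¹ :=
  (D.three_core s t).choose_spec.2.2.2.2.2.2.1 x hx

theorem W_act2 {s t : Bool} {x : H} (hx : x ∈ D.W s t) :
    D.e 2 * x * (D.e 2)⁻¹ = D.e 0 ^ pw t * x * (D.e 0 ^ pw t)⁻¹ :=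
  (D.three_core s t).choose_spec.2.2.2.2.2.2.2.1 x hx

theorem W_nonab (s t : Bool) : ∃ x ∈ D.W s t, ∃ y ∈ D.W s t, x * y ≠ y * x :=
  (D.three_core s t).choose_spec.2.2.2.2.2.2.2.2

theorem E_le_cent {a b c : ℕ} {x : H} (hx : x ∈ D.E) : x ∈ centralizer ({D.ev a b c} : Set H) :=
  mem_centralizer_singleton_iff.2 (D.E_comm hx (D.ev_mem a b c))

theorem W_norm_ev {s t : Bool} {x : H} (hx : x ∈ D.W s t) {g : H} (hg : g ∈ D.E) :
    g * x * g⁻¹ ∈ D.W s t :=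
  D.W_norm (by rw [D.y_ev]; exact D.E_le_cent hg) hx

theorem act_pow {p : ℕ} {i : Fin 3} {s t : Bool}
    (h : ∀ x ∈ D.W s t, D.e i * x * (D.e i)⁻¹ = D.e 0 ^ p * x * (D.e 0 ^ p)⁻¹) :
    ∀ (n : ℕ), ∀ x ∈ D.W s t, D.e i ^ n * x * (D.e i ^ n)⁻¹ = D.e 0 ^ (n * p) * x * (D.e 0 ^ (n * p))⁻¹ := by
  intro n
  induction n with
  | zero => intro x _; simp
  | succ n ih =>
    intro x hx
    have hm : D.e 0 ^ p * x * (D.e 0 ^ p)⁻¹ ∈ D.W s t :=
      D.W_norm_ev hx (by rw [← D.ev_e0]; exact D.ev_mem _ _ _)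
    calc D.e i ^ (n + 1) * x * (D.e i ^ (n + 1))⁻¹
        = D.e i ^ n * (D.e i * x * (D.e i)⁻¹) * (D.e i ^ n)⁻¹ := by rw [pow_succ]; group
      _ = D.e 0 ^ (n * p) * (D.e 0 ^ p * x * (D.e 0 ^ p)⁻¹) * (D.e 0 ^ (n * p))⁻¹ := by rw [h x hx, ih _ hm]
      _ = _ := by rw [Nat.succ_mul, pow_add]; group

/-- On a group of order eight every element of `E` acts as a power of the first coordinate. -/
theorem conj_ev {s t : Bool} {x : H} (hx : x ∈ D.W s t) (a b c : ℕ) :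
    D.ev a b c * x * (D.ev a b c)⁻¹ =
      D.e 0 ^ (a + b * pw s + c * pw t) * x * (D.e 0 ^ (a + b * pw s + c * pw t))⁻¹ := by
  have h1 := D.act_pow (fun x hx => D.W_act1 (s := s) (t := t) hx) b
  have h2 := D.act_pow (fun x hx => D.W_act2 (s := s) (t := t) hx) c
  have m2 : D.e 0 ^ (c * pw t) * x * (D.e 0 ^ (c * pw t))⁻¹ ∈ D.W s t :=
    D.W_norm_ev hx (by rw [← D.ev_e0]; exact D.ev_mem _ _ _)
  calc D.ev a b c * x * (D.ev a b c)⁻¹
      = D.e 0 ^ a * (D.e 1 ^ b * (D.e 2 ^ c * x * (D.e 2 ^ c)⁻¹) * (D.e 1 ^ b)⁻¹) * (D.e 0 ^ a)⁻¹ := by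
        rw [ev]; group
    _ = D.e 0 ^ a * (D.e 0 ^ (b * pw s) * (D.e 0 ^ (c * pw t) * x * (D.e 0 ^ (c * pw t))⁻¹) *
          (D.e 0 ^ (b * pw s))⁻¹) * (D.e 0 ^ a)⁻¹ := by rw [h2 x hx, h1 _ m2]
    _ = _ := by rw [pow_add, pow_add]; group

theorem ev_comm {s t : Bool} {x : H} (hx : x ∈ D.W s t) {a b c : ℕ} (h : 3 ∣ a + b * pw s + c * pw t) :
    D.ev a b c * x = x * D.ev a b c := by
  have e := D.conj_ev hx a b c
  rw [D.e_mod 0, Nat.mod_eq_zero_of_dvd h, pow_zero, one_mul, inv_one, mul_one] at e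
  exact mul_inv_eq_iff_eq_mul.1 e

theorem ev_fix {s t : Bool} {x : H} (hx : x ∈ D.W s t) {a b c : ℕ} (h : ¬ 3 ∣ a + b * pw s + c * pw t)
    (hc : D.ev a b c * x = x * D.ev a b c) : x = 1 ∨ x = D.z := by
  set k := a + b * pw s + c * pw t with hk
  have hk1 : D.e 0 ^ k * x = x * D.e 0 ^ k := by
    have e := D.conj_ev hx a b c
    rw [mul_inv_eq_iff_eq_mul.2 hc, ← hk] at e
    exact mul_inv_eq_iff_eq_mul.1 e.symm
  refine D.W_fix hx ?_
  have h2 := (Commute.pow_left (show Commute (D.e 0 ^ k) x from hk1) k).eq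
  have hkk : k * k % 3 = 1 := by
    rw [Nat.mul_mod]
    rcases (show k % 3 = 1 ∨ k % 3 = 2 by omega) with e | e <;> rw [e]
  rwa [← pow_mul, D.e_mod 0, hkk, pow_one] at h2

/-- The normaliser of `E`. -/
def Nf : Subgroup H := normalizer (D.E : Set H)

theorem e_mem (i : Fin 3) : D.e i ∈ D.E := subset_closure (Set.mem_range_self i)

variable [Finite H]

theorem W_inter_E {s t : Bool} {x : H} (hW : x ∈ D.W s t) (hE : x ∈ D.E) : x = 1 := by
  have h8 : x ^ 8 = 1 := by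
    have h := pow_card_eq_one' (G := D.W s t) (x := ⟨x, hW⟩)
    rw [D.W_card] at h
    exact congrArg Subtype.val h
  rw [← h8, show x ^ 8 = x ^ 3 * x ^ 3 * (x * x) by simp only [pow_succ, pow_zero, one_mul, mul_assoc],
    D.E_cube hE, one_mul, one_mul]
  have h3 := D.E_cube hE
  rw [pow_succ, pow_two] at h3
  have hxx : x * x = x⁻¹ := eq_inv_of_mul_eq_one_left h3
  rw [hxx]
  have h9 : x ^ 9 = 1 := by rw [show 9 = 3 * 3 from rfl, pow_mul, D.E_cube hE, one_pow]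
  rw [pow_succ, h8, one_mul] at h9
  rw [h9, inv_one]

theorem two_inter_E {Q : Subgroup H} (hQ : IsPGroup 2 Q) {x : H} (hx : x ∈ Q) (hE : x ∈ D.E) : x = 1 := by
  obtain ⟨k, hk⟩ := hQ ⟨x, hx⟩
  have h1 : x ^ 2 ^ k = 1 := congrArg Subtype.val hk
  have hd : orderOf x ∣ Nat.gcd (2 ^ k) 3 :=
    Nat.dvd_gcd (orderOf_dvd_of_pow_eq_one h1) (orderOf_dvd_of_pow_eq_one (D.E_cube hE))
  rw [(Nat.Coprime.pow_left k (by norm_num : Nat.Coprime 2 3)), Nat.dvd_one, orderOf_eq_one_iff] at hd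
  exact hd

theorem mem_Nf {n : H} (h : ∀ i, n * D.e i * n⁻¹ ∈ D.E) : n ∈ D.Nf := by
  have hle : D.E.map (MulAut.conj n).toMonoidHom ≤ D.E := by
    rw [map_le_iff_le_comap]
    refine (closure_le _).2 ?_
    rintro _ ⟨i, rfl⟩
    exact h i
  have heq : D.E.map (MulAut.conj n).toMonoidHom = D.E := Subgroup.eq_of_le_of_card_ge hle
    (Nat.card_congr (D.E.equivMapOfInjective _ (MulAut.conj n).injective).toEquiv).le
  refine mem_normalizer_iff.2 fun x => ⟨fun hx => heq ▸ ⟨x, hx, rfl⟩, fun hx => ?_⟩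
  rw [← heq] at hx
  obtain ⟨a, ha, e⟩ := hx
  exact (mul_left_cancel (mul_right_cancel (e : n * a * n⁻¹ = n * x * n⁻¹))) ▸ ha

theorem Nf_conj {n x : H} (hn : n ∈ D.Nf) (hx : x ∈ D.E) : n * x * n⁻¹ ∈ D.E :=
  (mem_normalizer_iff.1 hn x).1 hx

/-- The centraliser of `E`. -/
theorem cent_E {c : H} (hc : ∀ i, c * D.e i = D.e i * c) : ∃ a ∈ D.E, c = a ∨ c = D.z * a := by
  rcases D.cent_span c hc with h | h
  · exact ⟨c, h, Or.inl rfl⟩
  · exact ⟨D.z * c, h, Or.inr (by rw [← mul_assoc, D.zz, one_mul])⟩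

theorem centY {s t : Bool} {c : H} (hc : c ∈ centralizer ({D.y s t} : Set H)) :
    ∃ w ∈ D.W s t, ∃ n ∈ D.Nf, c = w * n := by
  obtain ⟨w, hw, h⟩ := D.W_dec hc
  exact ⟨w, hw, w⁻¹ * c, D.mem_Nf h, (mul_inv_cancel_left w c).symm⟩

/-- The groups of two-power order invariant under `E` in a group with a normal core and a complement normalising
`E` lie in the core. -/
theorem core_two {C R P : Subgroup H} (hR : IsPGroup 2 R) (hz : D.z ∈ R)
    (hCn : ∀ c ∈ C, ∀ r ∈ R, c * r * c⁻¹ ∈ R) (hEC : D.E ≤ C)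
    (hdec : ∀ c ∈ C, ∃ r ∈ R, ∀ k, r⁻¹ * c * D.e k * (r⁻¹ * c)⁻¹ ∈ D.E) (hP : IsPGroup 2 P) (hPC : P ≤ C)
    (hPE : ∀ g ∈ D.E, ∀ x ∈ P, g * x * g⁻¹ ∈ P) : P ≤ R := by
  haveI : Fact (Nat.Prime 2) := ⟨Nat.prime_two⟩
  have hn : P ≤ normalizer (R : Set H) := fun x hx => mem_normalizer_iff.2 fun r => ⟨hCn x (hPC hx) r, fun h => by
    have := hCn x⁻¹ (inv_mem (hPC hx)) _ h
    rwa [show x⁻¹ * (x * r * x⁻¹) * x⁻¹⁻¹ = r by group] at this⟩
  have h2 : IsPGroup 2 ↥(P ⊔ R) := IsPGroup.to_sup_of_normal_right' hP hR hn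
  have hinv : ∀ g ∈ D.E, ∀ x ∈ P ⊔ R, g * x * g⁻¹ ∈ P ⊔ R := by
    intro g hg
    have key : P ⊔ R ≤ (P ⊔ R).comap (MulAut.conj g).toMonoidHom :=
      sup_le (fun x hx => mem_sup_left (hPE g hg x hx)) (fun r hr => mem_sup_right (hCn g (hEC hg) r hr))
    exact fun x hx => key hx
  intro x hx
  obtain ⟨r, hr, hn'⟩ := hdec x (hPC hx)
  set n := r⁻¹ * x with hndef
  have hnS : n ∈ P ⊔ R := mul_mem (mem_sup_right (inv_mem hr)) (mem_sup_left hx)
  have hcomm : ∀ k, n * D.e k = D.e k * n := fun k => by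
    rw [← mul_inv_eq_iff_eq_mul, ← mul_inv_eq_one]
    refine D.two_inter_E h2 ?_ (mul_mem (hn' k) (inv_mem (D.e_mem k)))
    rw [show n * D.e k * n⁻¹ * (D.e k)⁻¹ = n * (D.e k * n⁻¹ * (D.e k)⁻¹) by group]
    exact mul_mem hnS (hinv _ (D.e_mem k) _ (inv_mem hnS))
  have hx' : x = r * n := by rw [hndef, mul_inv_cancel_left]
  obtain ⟨a, ha, e | e⟩ := D.cent_E hcomm
  · rw [hx', e, D.two_inter_E h2 (e ▸ hnS) ha, mul_one]; exact hr
  · have ha' : a ∈ P ⊔ R := by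
      have := mul_mem (mem_sup_right (inv_mem hz) : D.z⁻¹ ∈ P ⊔ R) hnS
      rwa [e, inv_mul_cancel_left] at this
    rw [hx', e, D.two_inter_E h2 ha' ha, mul_one]; exact mul_mem hr hz

theorem W_two (s t : Bool) : IsPGroup 2 (D.W s t) :=
  haveI : Fact (Nat.Prime 2) := ⟨Nat.prime_two⟩
  IsPGroup.of_card (n := 3) (D.W_card s t)

/-- The group of order eight is the largest invariant group of two-power order centralising its element. -/
theorem two_in_W {s t : Bool} {P : Subgroup H} (hP : IsPGroup 2 P)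
    (hPC : P ≤ centralizer ({D.y s t} : Set H)) (hPE : ∀ g ∈ D.E, ∀ x ∈ P, g * x * g⁻¹ ∈ P) : P ≤ D.W s t :=
  D.core_two (D.W_two s t) (D.z_mem_W s t) (fun _ hc _ hx => D.W_norm hc hx)
    (by rw [D.y_ev]; exact fun _ hx => D.E_le_cent hx) (fun _ hc => D.W_dec hc) hP hPC hPE

/-- The image of a group of order eight. -/
noncomputable def WX (s t : Bool) : Subgroup (H ⧸ D.Z) := (D.W s t).map D.π

theorem card_WX (s t : Bool) : Nat.card (D.WX s t) = 4 := by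
  have h := D.card_map_π (D.z_mem_W s t)
  rw [D.W_card] at h
  show Nat.card ((D.W s t).map D.π) = 4
  omega

theorem WX_fix {s t : Bool} {x : H ⧸ D.Z} (hx : x ∈ D.WX s t) {a b c : ℕ}
    (h : ¬ 3 ∣ a + b * pw s + c * pw t) (hc : D.π (D.ev a b c) * x = x * D.π (D.ev a b c)) : x = 1 := by
  obtain ⟨w, hw, rfl⟩ := hx
  exact D.π_eq_one.2 (D.ev_fix hw h (D.fix_lift (D.ev_cube a b c) hc))

theorem WX_norm {s t : Bool} {x : H ⧸ D.Z} (hx : x ∈ D.WX s t) {g : H} (hg : g ∈ D.E) :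
    D.π g * x * (D.π g)⁻¹ ∈ D.WX s t := by
  obtain ⟨w, hw, rfl⟩ := hx
  exact ⟨_, D.W_norm_ev hw hg, by rw [map_mul, map_mul, map_inv]⟩

theorem WX_conj {s t : Bool} {x : H ⧸ D.Z} (hx : x ∈ D.WX s t) (a b c : ℕ) :
    D.π (D.ev a b c) * x * (D.π (D.ev a b c))⁻¹ =
      D.π (D.ev (a + b * pw s + c * pw t) 0 0) * x * (D.π (D.ev (a + b * pw s + c * pw t) 0 0))⁻¹ := by
  obtain ⟨w, hw, rfl⟩ := hx
  rw [← map_inv, ← map_inv, ← map_mul, ← map_mul, ← map_mul, ← map_mul, D.conj_ev hw, D.ev_e0]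

theorem WX_sq {s t : Bool} {x : H ⧸ D.Z} (hx : x ∈ D.WX s t) : x * x = 1 := by
  classical
  have h4 : orderOf x ∣ 4 := D.card_WX s t ▸ Subgroup.orderOf_dvd_natCard _ hx
  have hle : orderOf x ≤ 4 := Nat.le_of_dvd (by norm_num) h4
  by_cases h : orderOf x = 4
  · exfalso
    set g := D.π (D.e 0) with hg
    have hgE : D.e 0 ∈ D.E := subset_closure (Set.mem_range_self 0)
    have hZ : zpowers x = D.WX s t := Subgroup.eq_of_le_of_card_ge (zpowers_le.2 hx)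
      (by rw [Nat.card_zpowers, h, D.card_WX])
    have hm : g * x * g⁻¹ ∈ D.WX s t := D.WX_norm hx hgE
    rw [← hZ, mem_zpowers_iff_mem_range_orderOf, Finset.mem_image] at hm
    obtain ⟨k, hk, e⟩ := hm
    rw [Finset.mem_range, h] at hk
    have ho : orderOf (x ^ k) = 4 := by
      rw [e]
      exact (MulEquiv.orderOf_eq (MulAut.conj g) x).trans h
    have hx4 : x ^ 4 = 1 := h ▸ pow_orderOf_eq_one x
    have fix1 : g * x * g⁻¹ ≠ x := fun e1 => by
      have hx1 : x = 1 := D.WX_fix hx (a := 1) (b := 0) (c := 0) (by norm_num)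
        (by rw [D.ev_e0, pow_one]; exact mul_inv_eq_iff_eq_mul.1 e1)
      rw [hx1, orderOf_one] at h
      omega
    have hg3 : g ^ 3 = 1 := by rw [hg, ← map_pow, D.cube, map_one]
    interval_cases k
    · simp at ho
    · exact fix1 (by rw [← e, pow_one])
    · rw [orderOf_pow' x (by norm_num), h] at ho
      norm_num at ho
    · refine fix1 ?_
      have e2 : ∀ m : ℕ, g * x ^ m * g⁻¹ = x ^ (3 * m) := fun m => by rw [← conj_pow, ← e, pow_mul]
      have e3 : x = x ^ 27 := by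
        calc x = g * g * g * x * (g * g * g)⁻¹ := by rw [show g * g * g = 1 by rw [← hg3, pow_succ, pow_two]]; group
          _ = g * (g * (g * x * g⁻¹) * g⁻¹) * g⁻¹ := by group
          _ = x ^ 27 := by rw [← e, e2, e2]
      have e4 : x ^ 27 = x ^ 3 := by
        rw [show x ^ 27 = (x ^ 4) ^ 6 * x ^ 3 by rw [← pow_mul, ← pow_add], hx4, one_pow, one_mul]
      rw [← e, ← e4, ← e3]
  · have : orderOf x ∣ 2 := by
      have : orderOf x ∣ 2 ^ 2 := h4
      obtain ⟨m, hm, e⟩ := (Nat.dvd_prime_pow Nat.prime_two).1 this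
      interval_cases m <;> simp_all
    rw [← pow_two]
    exact orderOf_dvd_iff_pow_eq_one.1 this

theorem WX_comm {s t : Bool} {x x' : H ⧸ D.Z} (hx : x ∈ D.WX s t) (hx' : x' ∈ D.WX s t) : x * x' = x' * x := by
  have h := D.WX_sq (mul_mem hx hx')
  have e1 := inv_eq_of_mul_eq_one_right h
  rw [mul_inv_rev, inv_eq_of_mul_eq_one_right (D.WX_sq hx), inv_eq_of_mul_eq_one_right (D.WX_sq hx')] at e1
  exact e1.symm

/-- The three conjugates of an element multiply to one. -/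
theorem WX_rel {s t : Bool} {x : H ⧸ D.Z} (hx : x ∈ D.WX s t) :
    x * (D.π (D.ev 1 0 0) * x * (D.π (D.ev 1 0 0))⁻¹) *
      (D.π (D.ev 2 0 0) * x * (D.π (D.ev 2 0 0))⁻¹) = 1 := by
  set g := D.π (D.ev 1 0 0) with hg
  have hg2 : D.π (D.ev 2 0 0) = g * g := by rw [hg, ← map_mul, D.ev_mul]
  have hg3 : g * g * g = 1 := by rw [hg, ← map_mul, ← map_mul, D.ev_mul, D.ev_mul, D.ev_eq_one.2 (by norm_num), map_one]
  rw [hg2]
  have m1 : g * x * g⁻¹ ∈ D.WX s t := D.WX_norm hx (D.ev_mem _ _ _)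
  have m2 : g * g * x * (g * g)⁻¹ ∈ D.WX s t := by
    have := D.WX_norm m1 (D.ev_mem 1 0 0)
    rw [show g * g * x * (g * g)⁻¹ = g * (g * x * g⁻¹) * g⁻¹ by group]
    exact this
  refine D.WX_fix (mul_mem (mul_mem hx m1) m2) (a := 1) (b := 0) (c := 0) (by norm_num) ?_
  rw [← hg, ← mul_inv_eq_iff_eq_mul]
  have hcomm := D.WX_comm hx (mul_mem m1 m2)
  calc g * (x * (g * x * g⁻¹) * (g * g * x * (g * g)⁻¹)) * g⁻¹
      = g * x * g⁻¹ * (g * g * x * (g * g)⁻¹) * ((g * g * g) * x * (g * g * g)⁻¹) := by group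
    _ = g * x * g⁻¹ * (g * g * x * (g * g)⁻¹) * x := by rw [hg3]; group
    _ = x * (g * x * g⁻¹ * (g * g * x * (g * g)⁻¹)) := hcomm.symm
    _ = _ := by group

end Data

end Cfsg.Agent.O8Three.Cube
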