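import Cfsg.Agent.Lib.O8Three.Closed.Code
import Mathlib.Algebra.Group.Basic
import Mathlib.Tactic.Group

/-!
S3372: linearity and composition of the codes, and homomorphisms from the vectors into a group.
-/

set_option autoImplicit false
set_option maxRecDepth 100000
set_option maxHeartbeats 4000000
set_option synthInstance.maxSize 1000

namespace Cfsg.Agent.O8Three.Cube

open Cfsg.Agent.O8Three.Closed (V Code fac0 fac1 fac2 appN app mulS mulC eC key key_inj)

/-- The sum of the images of the set bits. -/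
def xc (g : ℕ → ℕ) : ℕ → ℕ → ℕ
  | 0, _ => 0
  | n + 1, v => xc g n v ^^^ (if v.testBit n then g n else 0)

theorem xc_xor (g : ℕ → ℕ) (a b : ℕ) : ∀ n, xc g n (a ^^^ b) = xc g n a ^^^ xc g n b := by
  intro n
  induction n with
  | zero => simp [xc]
  | succ n ih =>
    simp only [xc, ih, Nat.testBit_xor]
    have lc : ∀ x y z : ℕ, x ^^^ (y ^^^ z) = y ^^^ (x ^^^ z) := fun x y z => by
      rw [← Nat.xor_assoc, Nat.xor_comm x, Nat.xor_assoc]
    have cl : ∀ x y : ℕ, x ^^^ (x ^^^ y) = y := fun x y => by rw [← Nat.xor_assoc, Nat.xor_self, Nat.zero_xor]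
    cases a.testBit n <;> cases b.testBit n <;> simp [Nat.xor_assoc, Nat.xor_comm, lc, cl]

theorem fac0_lin : ∀ s : Fin 6, ∀ v : Fin 256, fac0 s v.val = xc (fun b => fac0 s (2 ^ b)) 8 v.val := by
  decide +kernel

theorem fac1_lin : ∀ s : Fin 6, ∀ v : Fin 256, fac1 s v.val = xc (fun b => fac1 s (2 ^ b)) 8 v.val := by
  decide +kernel

theorem fac2_lin : ∀ s : Fin 6, ∀ v : Fin 256, fac2 s v.val = xc (fun b => fac2 s (2 ^ b)) 8 v.val := by
  decide +kernel

theorem fac0_lt : ∀ s : Fin 6, ∀ v : Fin 256, fac0 s v.val < 256 := by decide +kernel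

theorem fac1_lt : ∀ s : Fin 6, ∀ v : Fin 256, fac1 s v.val < 256 := by decide +kernel

theorem fac2_lt : ∀ s : Fin 6, ∀ v : Fin 256, fac2 s v.val < 256 := by decide +kernel

theorem fac0_mul : ∀ a b : Fin 6, ∀ v : Fin 256, fac0 (mulS a b) v.val = fac0 a (fac0 b v.val) := by
  decide +kernel

theorem fac1_mul : ∀ a b : Fin 6, ∀ v : Fin 256, fac1 (mulS a b) v.val = fac1 a (fac1 b v.val) := by
  decide +kernel

theorem fac2_mul : ∀ a b : Fin 6, ∀ v : Fin 256, fac2 (mulS a b) v.val = fac2 a (fac2 b v.val) := by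
  decide +kernel

theorem fac01 : ∀ a b : Fin 6, ∀ v : Fin 256, fac1 b (fac0 a v.val) = fac0 a (fac1 b v.val) := by
  decide +kernel

theorem fac02 : ∀ a b : Fin 6, ∀ v : Fin 256, fac2 b (fac0 a v.val) = fac0 a (fac2 b v.val) := by
  decide +kernel

theorem fac12 : ∀ a b : Fin 6, ∀ v : Fin 256, fac2 b (fac1 a v.val) = fac1 a (fac2 b v.val) := by
  decide +kernel

theorem fac_xor {F : Fin 6 → ℕ → ℕ} (h : ∀ s : Fin 6, ∀ v : Fin 256, F s v.val = xc (fun b => F s (2 ^ b)) 8 v.val)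
    (s : Fin 6) {a b : ℕ} (ha : a < 256) (hb : b < 256) : F s (a ^^^ b) = F s a ^^^ F s b := by
  have hab : a ^^^ b < 256 := Nat.xor_lt_two_pow (n := 8) ha hb
  rw [h s ⟨_, hab⟩, h s ⟨a, ha⟩, h s ⟨b, hb⟩, xc_xor]

theorem appN_lt (c : Code) {v : ℕ} (hv : v < 256) : appN c v < 256 :=
  fac0_lt _ ⟨_, fac1_lt _ ⟨_, fac2_lt c.2.2 ⟨v, hv⟩⟩⟩

theorem app_val (c : Code) (v : V) : (app c v).val = appN c v.val :=
  Nat.mod_eq_of_lt (appN_lt c v.isLt)

/-- The maps of the codes are additive. -/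
theorem app_xor (c : Code) (a b : V) : app c (a ^^^ b) = app c a ^^^ app c b := by
  apply Fin.ext
  have hv : ∀ x y : V, (x ^^^ y).val = x.val ^^^ y.val := fun x y => Fin.xor_val_of_two_pow (w := 8) x y
  rw [app_val, hv, hv, app_val, app_val]
  unfold appN
  have l2 : ∀ x : V, fac2 c.2.2 x.val < 256 := fun x => fac2_lt _ x
  rw [fac_xor fac2_lin _ a.isLt b.isLt, fac_xor fac1_lin _ (l2 a) (l2 b),
    fac_xor fac0_lin _ (fac1_lt _ ⟨_, l2 a⟩) (fac1_lt _ ⟨_, l2 b⟩)]

/-- The product of codes is the composition of their maps. -/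
theorem app_mulC (a b : Code) (v : V) : app (mulC a b) v = app a (app b v) := by
  apply Fin.ext
  rw [app_val, app_val, app_val]
  unfold appN mulC
  simp only
  have l2 : fac2 b.2.2 v.val < 256 := fac2_lt _ v
  have l1 : fac1 b.2.1 (fac2 b.2.2 v.val) < 256 := fac1_lt _ ⟨_, l2⟩
  have l0 : fac2 a.2.2 (fac2 b.2.2 v.val) < 256 := fac2_lt _ ⟨_, l2⟩
  have l0' : fac1 b.2.1 (fac2 a.2.2 (fac2 b.2.2 v.val)) < 256 := fac1_lt _ ⟨_, l0⟩
  have l0'' : fac1 a.2.1 (fac1 b.2.1 (fac2 a.2.2 (fac2 b.2.2 v.val))) < 256 := fac1_lt _ ⟨_, l0'⟩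
  have m2 : fac2 (mulS a.2.2 b.2.2) v.val = fac2 a.2.2 (fac2 b.2.2 v.val) := fac2_mul _ _ v
  have m1 : fac1 (mulS a.2.1 b.2.1) (fac2 a.2.2 (fac2 b.2.2 v.val)) =
      fac1 a.2.1 (fac1 b.2.1 (fac2 a.2.2 (fac2 b.2.2 v.val))) := fac1_mul _ _ ⟨_, l0⟩
  have m0 : fac0 (mulS a.1 b.1) (fac1 a.2.1 (fac1 b.2.1 (fac2 a.2.2 (fac2 b.2.2 v.val)))) =
      fac0 a.1 (fac0 b.1 (fac1 a.2.1 (fac1 b.2.1 (fac2 a.2.2 (fac2 b.2.2 v.val))))) := fac0_mul _ _ ⟨_, l0''⟩
  have c02 : fac2 a.2.2 (fac0 b.1 (fac1 b.2.1 (fac2 b.2.2 v.val))) =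
      fac0 b.1 (fac2 a.2.2 (fac1 b.2.1 (fac2 b.2.2 v.val))) := fac02 _ _ ⟨_, l1⟩
  have c12 : fac2 a.2.2 (fac1 b.2.1 (fac2 b.2.2 v.val)) = fac1 b.2.1 (fac2 a.2.2 (fac2 b.2.2 v.val)) :=
    fac12 _ _ ⟨_, l2⟩
  have c01 : fac1 a.2.1 (fac0 b.1 (fac1 b.2.1 (fac2 a.2.2 (fac2 b.2.2 v.val)))) =
      fac0 b.1 (fac1 a.2.1 (fac1 b.2.1 (fac2 a.2.2 (fac2 b.2.2 v.val)))) := fac01 _ _ ⟨_, l0'⟩
  rw [m2, m1, m0, c02, c12, c01]

theorem app_eC : ∀ v : V, app eC v = v := by decide +kernel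

theorem code_ext {c d : Code} (h : ∀ v, app c v = app d v) : c = d :=
  key_inj c d (List.map_congr_left fun v _ => h v)

/-- The basis vector with given coordinates. -/
def uv (a b c : Bool) : V :=
  ⟨2 ^ ((if a then 1 else 0) + (if b then 2 else 0) + (if c then 4 else 0)) % 256, Nat.mod_lt _ (by decide)⟩

theorem uv_gen0 : ∀ b c : Bool, app (4, 0, 0) (uv false b c) = uv true b c ∧
    app (4, 0, 0) (uv true b c) = uv false b c ^^^ uv true b c ∧ app (2, 0, 0) (uv false b c) = uv false b c ∧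
    app (2, 0, 0) (uv true b c) = uv false b c ^^^ uv true b c := by decide +kernel

theorem uv_gen1 : ∀ a c : Bool, app (0, 4, 0) (uv a false c) = uv a true c ∧
    app (0, 4, 0) (uv a true c) = uv a false c ^^^ uv a true c ∧ app (0, 2, 0) (uv a false c) = uv a false c ∧
    app (0, 2, 0) (uv a true c) = uv a false c ^^^ uv a true c := by decide +kernel

theorem uv_gen2 : ∀ a b : Bool, app (0, 0, 4) (uv a b false) = uv a b true ∧
    app (0, 0, 4) (uv a b true) = uv a b false ^^^ uv a b true ∧ app (0, 0, 2) (uv a b false) = uv a b false ∧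
    app (0, 0, 2) (uv a b true) = uv a b false ^^^ uv a b true := by decide +kernel

/-- The sum of the set bits. -/
def vsum : ℕ → V → V
  | 0, _ => 0
  | n + 1, v => vsum n v ^^^ (if v.val.testBit n then ⟨2 ^ n % 256, Nat.mod_lt _ (by decide)⟩ else 0)

theorem vsum_eq : ∀ v : V, vsum 8 v = v := by decide +kernel

theorem uv_all : ∀ n : Fin 8, ∃ a b c, uv a b c = ⟨2 ^ n.val % 256, Nat.mod_lt _ (by decide)⟩ := by
  decide +kernel

theorem xor_self : (0 : V) ^^^ 0 = 0 := by decide +kernel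

variable {X : Type*} [Group X]

theorem hom_zero {F : V → X} (hF : ∀ a b, F (a ^^^ b) = F a * F b) : F 0 = 1 := by
  have h := hF 0 0
  rw [xor_self] at h
  exact mul_eq_left.1 h.symm

/-- Additive maps into a group agreeing on the basis are equal. -/
theorem hom_ext {F G : V → X} (hF : ∀ a b, F (a ^^^ b) = F a * F b) (hG : ∀ a b, G (a ^^^ b) = G a * G b)
    (h : ∀ a b c, F (uv a b c) = G (uv a b c)) (v : V) : F v = G v := by
  have key : ∀ n, n ≤ 8 → F (vsum n v) = G (vsum n v) := by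
    intro n
    induction n with
    | zero => intro _; show F 0 = G 0; rw [hom_zero hF, hom_zero hG]
    | succ n ih =>
      intro hn
      simp only [vsum]
      rw [hF, hG, ih (by omega)]
      split
      · obtain ⟨a, b, c, e⟩ := uv_all ⟨n, by omega⟩
        simp only at e
        rw [← e, h]
      · rw [hom_zero hF, hom_zero hG]
  have := key 8 le_rfl
  rwa [vsum_eq] at this

/-- The product of the images of the set bits. -/
def fcomb (g : Bool → Bool → Bool → X) : ℕ → V → X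
  | 0, _ => 1
  | n + 1, v => fcomb g n v * (if v.val.testBit n then g (n.testBit 0) (n.testBit 1) (n.testBit 2) else 1)

theorem fcomb_comm {g : Bool → Bool → Bool → X}
    (hc : ∀ a b c a' b' c', g a b c * g a' b' c' = g a' b' c' * g a b c) (n : ℕ) (a b c : Bool) (v : V) :
    fcomb g n v * g a b c = g a b c * fcomb g n v := by
  induction n with
  | zero => simp [fcomb]
  | succ n ih =>
    simp only [fcomb]
    refine (Commute.mul_left ih ?_).eq
    split
    · exact hc _ _ _ _ _ _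
    · exact Commute.one_left _

theorem fcomb_xor {g : Bool → Bool → Bool → X}
    (hc : ∀ a b c a' b' c', g a b c * g a' b' c' = g a' b' c' * g a b c)
    (h2 : ∀ a b c, g a b c * g a b c = 1) (u v : V) :
    ∀ n, fcomb g n (u ^^^ v) = fcomb g n u * fcomb g n v := by
  intro n
  induction n with
  | zero => simp [fcomb]
  | succ n ih =>
    have hv : (u ^^^ v).val = u.val ^^^ v.val := Fin.xor_val_of_two_pow (w := 8) u v
    simp only [fcomb, ih, hv, Nat.testBit_xor]
    set x := g (n.testBit 0) (n.testBit 1) (n.testBit 2) with hx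
    have hxv : fcomb g n v * x = x * fcomb g n v := fcomb_comm hc n _ _ _ v
    cases u.val.testBit n <;> cases v.val.testBit n <;>
      simp only [Bool.xor_self, Bool.false_xor, Bool.xor_false, Bool.false_eq_true, if_false, if_true, mul_one]
    · rw [mul_assoc (fcomb g n u)]
    · rw [mul_assoc (fcomb g n u) (fcomb g n v) x, hxv, ← mul_assoc]
    · rw [show fcomb g n u * x * (fcomb g n v * x) = fcomb g n u * (x * fcomb g n v) * x by group, ← hxv]
      rw [show fcomb g n u * (fcomb g n v * x) * x = fcomb g n u * fcomb g n v * (x * x) by group, hx, h2, mul_one]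

theorem fcomb_uv (g : Bool → Bool → Bool → X) (a b c : Bool) : fcomb g 8 (uv a b c) = g a b c := by
  cases a <;> cases b <;> cases c <;> simp [fcomb, uv, Nat.testBit, Nat.shiftRight_eq_div_pow]

end Cfsg.Agent.O8Three.Cube
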