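import Cfsg.Agent.Lib.O8Three.Cube.Basic
import Mathlib.GroupTheory.SchurZassenhaus
import Mathlib.GroupTheory.Sylow

/-!
S3372: the normaliser of `E`, a 2-subgroup inducing the changes of sign, and its action on the groups of order
eight.
-/

set_option autoImplicit false
set_option linter.style.haveILetI false
set_option linter.unusedSectionVars false

namespace Cfsg.Agent.O8Three.Cube

open Subgroup

/-- The exponent of a choice. -/
def bx : Bool → ℕ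
  | false => 0
  | true => 1

theorem pw_flip : ∀ s t f g h : Bool,
    (pw f % 3 = 1 ∧ pw s * pw g % 3 = pw (xor s (xor f g)) % 3 ∧ pw t * pw h % 3 = pw (xor t (xor f h)) % 3) ∨
      (pw f % 3 = 2 ∧ pw s * pw g % 3 = 2 * pw (xor s (xor f g)) % 3 ∧
        pw t * pw h % 3 = 2 * pw (xor t (xor f h)) % 3) := by decide

namespace Data

variable {H : Type*} [Group H] (D : Data H)

theorem z_mem_Nf : D.z ∈ D.Nf := mem_normalizer_iff.2 fun h => by
  rw [D.zc h, mul_inv_cancel_right]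

theorem E_le_Nf : D.E ≤ D.Nf := fun x hx => le_normalizer hx

/-- The part of the normaliser without permutation of the coordinates. -/
def N : Subgroup H where
  carrier := {n | ∀ i, n * D.e i * n⁻¹ = D.e i ∨ n * D.e i * n⁻¹ = (D.e i)⁻¹}
  one_mem' := fun i => Or.inl (by group)
  mul_mem' := by
    intro m n hm hn i
    have e : m * n * D.e i * (m * n)⁻¹ = m * (n * D.e i * n⁻¹) * m⁻¹ := by group
    rw [e]
    rcases hn i with h | h <;> rw [h]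
    · exact hm i
    · rw [← conj_inv]
      rcases hm i with h' | h' <;> rw [h']
      · exact Or.inr rfl
      · exact Or.inl (inv_inv _)
  inv_mem' := by
    intro n hn i
    rcases hn i with h | h
    · refine Or.inl ?_
      calc n⁻¹ * D.e i * n⁻¹⁻¹ = n⁻¹ * (n * D.e i * n⁻¹) * n := by rw [h]; group
        _ = D.e i := by group
    · refine Or.inr ?_
      calc n⁻¹ * D.e i * n⁻¹⁻¹ = (n⁻¹ * (D.e i)⁻¹ * n)⁻¹ := by group
        _ = (n⁻¹ * (n * D.e i * n⁻¹) * n)⁻¹ := by rw [h]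
        _ = (D.e i)⁻¹ := by group

theorem E_le_N : D.E ≤ D.N := fun x hx i => Or.inl (by rw [D.E_comm hx (D.e_mem i), mul_inv_cancel_right])

theorem z_mem_N : D.z ∈ D.N := fun i => Or.inl (by rw [D.zc, mul_inv_cancel_right])

theorem signs {n : H} (hn : n ∈ D.N) (i : Fin 3) :
    n * D.e i * n⁻¹ = D.e i ∨ n * D.e i * n⁻¹ = (D.e i)⁻¹ := hn i

variable [Finite H]

theorem N_le_Nf : D.N ≤ D.Nf := fun n hn => D.mem_Nf fun i => by
  rcases hn i with e | e <;> rw [e]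
  exacts [D.e_mem i, inv_mem (D.e_mem i)]

theorem N_normal {n m : H} (hn : n ∈ D.Nf) (hm : m ∈ D.N) : n * m * n⁻¹ ∈ D.N := by
  obtain ⟨σ, hσ⟩ := D.mono n fun i => D.Nf_conj hn (D.e_mem i)
  intro i
  obtain ⟨j, rfl⟩ := σ.surjective i
  have key : ∀ x : H, n * m * n⁻¹ * (n * x * n⁻¹) * (n * m * n⁻¹)⁻¹ = n * (m * x * m⁻¹) * n⁻¹ := fun x => by group
  rcases hσ j with h | h
  · rw [← h, key]
    rcases hm j with e | e <;> rw [e]
    · exact Or.inl rfl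
    · exact Or.inr (by rw [← conj_inv])
  · rw [show D.e (σ j) = n * (D.e j)⁻¹ * n⁻¹ by rw [← conj_inv, h, inv_inv], key, ← conj_inv (a := D.e j) (b := m)]
    rcases hm j with e | e <;> rw [e]
    · exact Or.inl rfl
    · exact Or.inr (by rw [inv_inv, conj_inv, inv_inv])

theorem pow_four {n : H} (hn : n ∈ D.N) : n ^ 4 ∈ D.E := by
  obtain ⟨a, ha, h⟩ := D.cent_E (c := n * n) fun i => by
    rw [← mul_inv_eq_iff_eq_mul]
    rcases D.signs hn i with e | e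
    · calc n * n * D.e i * (n * n)⁻¹ = n * (n * D.e i * n⁻¹) * n⁻¹ := by group
        _ = D.e i := by rw [e, e]
    · calc n * n * D.e i * (n * n)⁻¹ = n * (n * D.e i * n⁻¹) * n⁻¹ := by group
        _ = n * (D.e i)⁻¹ * n⁻¹ := by rw [e]
        _ = (n * D.e i * n⁻¹)⁻¹ := by group
        _ = D.e i := by rw [e, inv_inv]
  have h4 : n ^ 4 = n * n * (n * n) := by simp only [pow_succ, pow_zero, one_mul, mul_assoc]
  rw [h4]
  rcases h with h | h <;> rw [h]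
  · exact mul_mem ha ha
  · rw [show D.z * a * (D.z * a) = D.z * (a * D.z) * a by group, ← D.zc a, ← mul_assoc D.z D.z, D.zz, one_mul]
    exact mul_mem ha ha

/-- A complement of `E` in its normaliser. -/
theorem exists_T : ∃ T : Subgroup H, T ≤ D.N ∧ IsPGroup 2 T ∧ (∀ n ∈ D.N, ∃ a ∈ D.E, ∃ t ∈ T, n = a * t) ∧
    Nat.card D.N = 27 * Nat.card T := by
  classical
  haveI : Fact (Nat.Prime 2) := ⟨Nat.prime_two⟩
  set N := D.N
  set E' := D.E.subgroupOf N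
  haveI : E'.Normal := normal_subgroupOf_of_le_normalizer D.N_le_Nf
  have hc : Nat.card E' = 27 := (Nat.card_congr (subgroupOfEquivOfLe D.E_le_N).toEquiv).trans D.card_E
  have hq : IsPGroup 2 (N ⧸ E') := fun q => by
    obtain ⟨n, rfl⟩ := QuotientGroup.mk_surjective q
    refine ⟨2, ?_⟩
    rw [← QuotientGroup.mk_pow, QuotientGroup.eq_one_iff]
    exact D.pow_four n.2
  obtain ⟨m, hm⟩ := IsPGroup.iff_card.1 hq
  rw [← Subgroup.index_eq_card] at hm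
  obtain ⟨T', hT⟩ := exists_right_complement'_of_coprime (N := E')
    (by rw [hc, hm]; exact Nat.Coprime.pow_right m (by norm_num))
  have hcT : Nat.card T' = 2 ^ m := by
    have h := hT.card_mul
    rw [← E'.card_mul_index, hm] at h
    exact mul_left_cancel₀ (by omega) h
  refine ⟨T'.map N.subtype, map_subtype_le T', (IsPGroup.of_card hcT).map _, fun n hn => ?_, ?_⟩
  · obtain ⟨⟨a, t⟩, e⟩ := hT.2 ⟨n, hn⟩
    exact ⟨_, a.2, _, ⟨t.1, t.2, rfl⟩, (congrArg Subtype.val e).symm⟩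
  · rw [Nat.card_congr (T'.equivMapOfInjective _ N.subtype_injective).toEquiv.symm, ← hc, hT.card_mul]

/-- The chosen complement. -/
noncomputable def T : Subgroup H := D.exists_T.choose

theorem T_le : D.T ≤ D.N := D.exists_T.choose_spec.1

theorem T_two : IsPGroup 2 D.T := D.exists_T.choose_spec.2.1

theorem T_dec {n : H} (hn : n ∈ D.N) : ∃ a ∈ D.E, ∃ t ∈ D.T, n = a * t := D.exists_T.choose_spec.2.2.1 n hn

theorem card_N : Nat.card D.N = 27 * Nat.card D.T := D.exists_T.choose_spec.2.2.2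

theorem T_inter_E {t : H} (ht : t ∈ D.T) (hE : t ∈ D.E) : t = 1 := by
  obtain ⟨k, hk⟩ := D.T_two ⟨t, ht⟩
  have h1 : t ^ 2 ^ k = 1 := congrArg Subtype.val hk
  have hd : orderOf t ∣ Nat.gcd (2 ^ k) 3 :=
    Nat.dvd_gcd (orderOf_dvd_of_pow_eq_one h1) (orderOf_dvd_of_pow_eq_one (D.E_cube hE))
  rw [(Nat.Coprime.pow_left k (by norm_num : Nat.Coprime 2 3)), Nat.dvd_one, orderOf_eq_one_iff] at hd
  exact hd

theorem z_mem_T : D.z ∈ D.T := by
  obtain ⟨a, ha, t, ht, e⟩ := D.T_dec D.z_mem_N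
  obtain ⟨k, hk⟩ := D.T_two ⟨t, ht⟩
  have h1 : t ^ 2 ^ k = 1 := congrArg Subtype.val hk
  have hco : a ^ (2 ^ (k + 1)) = 1 := by
    have ht' : t = a⁻¹ * D.z := by rw [e]; group
    have h2 : (a⁻¹ * D.z) ^ 2 ^ (k + 1) = 1 := by
      rw [← ht', pow_succ, pow_mul, h1, one_pow]
    rw [(show Commute a⁻¹ D.z from D.central a⁻¹).mul_pow, pow_succ' 2 k, pow_mul D.z, pow_two D.z, D.zz, one_pow,
      mul_one, inv_pow, inv_eq_one] at h2
    rw [pow_succ' 2 k]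
    exact h2
  have hd : orderOf a ∣ Nat.gcd (2 ^ (k + 1)) 3 :=
    Nat.dvd_gcd (orderOf_dvd_of_pow_eq_one hco) (orderOf_dvd_of_pow_eq_one (D.E_cube ha))
  rw [(Nat.Coprime.pow_left (k + 1) (by norm_num : Nat.Coprime 2 3)), Nat.dvd_one, orderOf_eq_one_iff] at hd
  rw [e, hd, one_mul]
  exact ht

theorem T_cent {t : H} (ht : t ∈ D.T) (h : ∀ i, t * D.e i = D.e i * t) : t = 1 ∨ t = D.z := by
  obtain ⟨a, ha, e | e⟩ := D.cent_E h
  · exact Or.inl (D.T_inter_E ht (e ▸ ha))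
  · have hzt : D.z * t = a := by rw [e, ← mul_assoc, D.zz, one_mul]
    have := D.T_inter_E (mul_mem D.z_mem_T ht) (hzt ▸ ha)
    exact Or.inr (by rw [e, ← hzt, this, mul_one])

theorem exists_nf (i : Fin 3) : ∃ t ∈ D.T, t * D.e i * t⁻¹ = (D.e i)⁻¹ ∧ ∀ j, j ≠ i → t * D.e j * t⁻¹ = D.e j := by
  obtain ⟨n, hn1, hn2⟩ := D.flip i
  have hn : n ∈ D.N := fun j => by
    by_cases hj : j = i
    · exact Or.inr (hj ▸ hn1)
    · exact Or.inl (hn2 j hj)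
  obtain ⟨a, ha, t, ht, rfl⟩ := D.T_dec hn
  have key : ∀ j x, x ∈ D.E → a * t * D.e j * (a * t)⁻¹ = x → t * D.e j * t⁻¹ = x := fun j x hx e => by
    calc t * D.e j * t⁻¹ = a⁻¹ * (a * t * D.e j * (a * t)⁻¹) * a := by group
      _ = a⁻¹ * (x * a) := by rw [e, mul_assoc]
      _ = x := by rw [D.E_comm hx ha, inv_mul_cancel_left]
  exact ⟨t, ht, key _ _ (inv_mem (D.e_mem i)) hn1, fun j hj => key _ _ (D.e_mem j) (hn2 j hj)⟩

/-- The change of one sign. -/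
noncomputable def nf (i : Fin 3) : H := (D.exists_nf i).choose

theorem nf_mem (i : Fin 3) : D.nf i ∈ D.T := (D.exists_nf i).choose_spec.1

theorem nf_self (i : Fin 3) : D.nf i * D.e i * (D.nf i)⁻¹ = (D.e i)⁻¹ := (D.exists_nf i).choose_spec.2.1

theorem nf_other {i j : Fin 3} (h : j ≠ i) : D.nf i * D.e j * (D.nf i)⁻¹ = D.e j :=
  (D.exists_nf i).choose_spec.2.2 j h

/-- A product of changes of sign. -/
noncomputable def nn (p q r : Bool) : H := D.nf 0 ^ bx p * D.nf 1 ^ bx q * D.nf 2 ^ bx r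

theorem nn_mem (p q r : Bool) : D.nn p q r ∈ D.T :=
  mul_mem (mul_mem (pow_mem (D.nf_mem 0) _) (pow_mem (D.nf_mem 1) _)) (pow_mem (D.nf_mem 2) _)

theorem nn_conj (p q r : Bool) :
    D.nn p q r * D.e 0 * (D.nn p q r)⁻¹ = D.e 0 ^ pw p ∧
    D.nn p q r * D.e 1 * (D.nn p q r)⁻¹ = D.e 1 ^ pw q ∧
    D.nn p q r * D.e 2 * (D.nn p q r)⁻¹ = D.e 2 ^ pw r := by
  have hs : ∀ (i : Fin 3) (b : Bool), D.nf i ^ bx b * D.e i * (D.nf i ^ bx b)⁻¹ = D.e i ^ pw b := fun i b => by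
    cases b
    · simp [pw, bx]
    · simp only [pw, bx, pow_one]
      rw [D.nf_self, inv_eq_sq (D.cube i)]
  have ho : ∀ (i j : Fin 3) (b : Bool) (k : ℕ), j ≠ i →
      D.nf i ^ bx b * D.e j ^ k * (D.nf i ^ bx b)⁻¹ = D.e j ^ k := fun i j b k h => by
    cases b
    · simp [bx]
    · simp only [bx, pow_one]
      rw [← conj_pow, D.nf_other h]
  have ho1 : ∀ (i j : Fin 3) (b : Bool), j ≠ i →
      D.nf i ^ bx b * D.e j * (D.nf i ^ bx b)⁻¹ = D.e j := fun i j b h => by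
    simpa using ho i j b 1 h
  refine ⟨?_, ?_, ?_⟩
  · calc D.nn p q r * D.e 0 * (D.nn p q r)⁻¹ = D.nf 0 ^ bx p * (D.nf 1 ^ bx q *
          (D.nf 2 ^ bx r * D.e 0 * (D.nf 2 ^ bx r)⁻¹) * (D.nf 1 ^ bx q)⁻¹) * (D.nf 0 ^ bx p)⁻¹ := by rw [nn]; group
      _ = _ := by rw [ho1 2 0 r (by decide), ho1 1 0 q (by decide), hs]
  · calc D.nn p q r * D.e 1 * (D.nn p q r)⁻¹ = D.nf 0 ^ bx p * (D.nf 1 ^ bx q *
          (D.nf 2 ^ bx r * D.e 1 * (D.nf 2 ^ bx r)⁻¹) * (D.nf 1 ^ bx q)⁻¹) * (D.nf 0 ^ bx p)⁻¹ := by rw [nn]; group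
      _ = _ := by rw [ho1 2 1 r (by decide), hs, ho 0 1 p _ (by decide)]
  · calc D.nn p q r * D.e 2 * (D.nn p q r)⁻¹ = D.nf 0 ^ bx p * (D.nf 1 ^ bx q *
          (D.nf 2 ^ bx r * D.e 2 * (D.nf 2 ^ bx r)⁻¹) * (D.nf 1 ^ bx q)⁻¹) * (D.nf 0 ^ bx p)⁻¹ := by rw [nn]; group
      _ = _ := by rw [hs, ho 1 2 q _ (by decide), ho 0 2 p _ (by decide)]

theorem e_ne_sq (i : Fin 3) : D.e i ≠ D.e i ^ 2 := fun e => by
  have h1 : D.e i = 1 := by
    rw [pow_two] at e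
    exact mul_eq_left.1 e.symm
  rcases i with ⟨_ | _ | _ | i, hi⟩
  · have h := D.indep 1 0 0 (by norm_num) (by norm_num) (by norm_num) (by simp only [pow_one, pow_zero, mul_one]; exact h1)
    omega
  · have h := D.indep 0 1 0 (by norm_num) (by norm_num) (by norm_num)
      (by simp only [pow_one, pow_zero, mul_one, one_mul]; exact h1)
    omega
  · have h := D.indep 0 0 1 (by norm_num) (by norm_num) (by norm_num)
      (by simp only [pow_one, pow_zero, one_mul]; exact h1)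
    omega
  · omega

theorem sign_exists {n : H} (hn : n ∈ D.N) (i : Fin 3) : ∃ b : Bool, n * D.e i * n⁻¹ = D.e i ^ pw b := by
  rcases D.signs hn i with e | e
  · exact ⟨false, by rw [e, pw, pow_one]⟩
  · exact ⟨true, by rw [e, pw, inv_eq_sq (D.cube i)]⟩

/-- An element of the normaliser acts as a product of changes of sign. -/
theorem sign_nn {n : H} (hn : n ∈ D.N) : ∃ p q r, ∀ i, ((D.nn p q r)⁻¹ * n) * D.e i = D.e i * ((D.nn p q r)⁻¹ * n) := by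
  obtain ⟨p, hp⟩ := D.sign_exists hn 0
  obtain ⟨q, hq⟩ := D.sign_exists hn 1
  obtain ⟨r, hr⟩ := D.sign_exists hn 2
  obtain ⟨h0, h1, h2⟩ := D.nn_conj p q r
  refine ⟨p, q, r, fun i => mul_inv_eq_iff_eq_mul.1 ?_⟩
  have key : ∀ x y : H, n * x * n⁻¹ = y → D.nn p q r * x * (D.nn p q r)⁻¹ = y →
      (D.nn p q r)⁻¹ * n * x * ((D.nn p q r)⁻¹ * n)⁻¹ = x := fun x y e1 e2 => by
    calc (D.nn p q r)⁻¹ * n * x * ((D.nn p q r)⁻¹ * n)⁻¹
        = (D.nn p q r)⁻¹ * (n * x * n⁻¹) * D.nn p q r := by group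
      _ = _ := by rw [e1, ← e2]; group
  rcases i with ⟨_ | _ | _ | i, hi⟩
  exacts [key _ _ hp h0, key _ _ hq h1, key _ _ hr h2, absurd hi (by omega)]

theorem T_nn {t : H} (ht : t ∈ D.T) : ∃ p q r, t = D.nn p q r ∨ t = D.nn p q r * D.z := by
  obtain ⟨p, q, r, h⟩ := D.sign_nn (D.T_le ht)
  refine ⟨p, q, r, ?_⟩
  rcases D.T_cent (mul_mem (inv_mem (D.nn_mem p q r)) ht) h with e | e
  · exact Or.inl (inv_mul_eq_one.1 e).symm
  · exact Or.inr (inv_mul_eq_iff_eq_mul.1 e)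

theorem N_dec {n : H} (hn : n ∈ D.N) : ∃ a ∈ D.E, ∃ p q r, n = a * D.nn p q r ∨ n = a * D.nn p q r * D.z := by
  obtain ⟨a, ha, t, ht, rfl⟩ := D.T_dec hn
  obtain ⟨p, q, r, h | h⟩ := D.T_nn ht
  · exact ⟨a, ha, p, q, r, Or.inl (by rw [h])⟩
  · exact ⟨a, ha, p, q, r, Or.inr (by rw [h, mul_assoc])⟩

theorem e_conj {n : H} {p q r : Bool} (h0 : n * D.e 0 * n⁻¹ = D.e 0 ^ pw p)
    (h1 : n * D.e 1 * n⁻¹ = D.e 1 ^ pw q) (h2 : n * D.e 2 * n⁻¹ = D.e 2 ^ pw r) (a b c : ℕ) :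
    n * D.ev a b c * n⁻¹ = D.ev (pw p * a) (pw q * b) (pw r * c) := by
  rw [ev, ev, pow_mul, pow_mul, pow_mul, ← h0, ← h1, ← h2, conj_pow, conj_pow, conj_pow]
  group

theorem conj_W' {n : H} (hn : n ∈ D.Nf) {s t s' t' : Bool}
    (hy : n * D.y s t * n⁻¹ = D.y s' t' ∨ n * D.y s t * n⁻¹ = (D.y s' t')⁻¹) {x : H} (hx : x ∈ D.W s t) :
    n * x * n⁻¹ ∈ D.W s' t' := by
  set P := (D.W s t).map (MulAut.conj n).toMonoidHom with hP
  have hle : P ≤ D.W s' t' := by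
    refine D.two_in_W ((D.W_two s t).map _) ?_ ?_
    · rintro _ ⟨w, hw, rfl⟩
      show n * w * n⁻¹ ∈ _
      have hwy : w * D.y s t = D.y s t * w := mem_centralizer_singleton_iff.1 (D.W_le s t hw)
      have hm : n * w * n⁻¹ * (n * D.y s t * n⁻¹) = n * D.y s t * n⁻¹ * (n * w * n⁻¹) := by
        calc n * w * n⁻¹ * (n * D.y s t * n⁻¹) = n * (w * D.y s t) * n⁻¹ := by group
          _ = _ := by rw [hwy]; group
      refine mem_centralizer_singleton_iff.2 ?_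
      rcases hy with e | e <;> rw [e] at hm
      · exact hm
      · have := Commute.inv_right (show Commute (n * w * n⁻¹) (D.y s' t')⁻¹ from hm)
        rwa [inv_inv] at this
    · rintro g hg _ ⟨w, hw, rfl⟩
      refine ⟨n⁻¹ * g * n⁻¹⁻¹ * w * (n⁻¹ * g * n⁻¹⁻¹)⁻¹, D.W_norm_ev hw (D.Nf_conj (inv_mem hn) hg), ?_⟩
      show n * (n⁻¹ * g * n⁻¹⁻¹ * w * (n⁻¹ * g * n⁻¹⁻¹)⁻¹) * n⁻¹ = g * (n * w * n⁻¹) * g⁻¹
      group
  exact hle ⟨x, hx, rfl⟩

/-- The action of the changes of sign on the groups of order eight. -/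
theorem conj_W {n : H} {p q r : Bool} (h0 : n * D.e 0 * n⁻¹ = D.e 0 ^ pw p)
    (h1 : n * D.e 1 * n⁻¹ = D.e 1 ^ pw q) (h2 : n * D.e 2 * n⁻¹ = D.e 2 ^ pw r) {s t : Bool} {x : H}
    (hx : x ∈ D.W s t) : n * x * n⁻¹ ∈ D.W (xor s (xor p q)) (xor t (xor p r)) := by
  refine D.conj_W' (D.mem_Nf fun i => ?_) ?_ hx
  · rcases i with ⟨_ | _ | _ | i, hi⟩
    · exact h0.symm ▸ pow_mem (D.e_mem 0) _
    · exact h1.symm ▸ pow_mem (D.e_mem 1) _
    · exact h2.symm ▸ pow_mem (D.e_mem 2) _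
    · omega
  · rw [D.y_ev, D.e_conj h0 h1 h2, D.y_ev, D.ev_inv, mul_one, D.ev_mod (pw p), mul_comm (pw q), mul_comm (pw r)]
    rcases pw_flip s t p q r with ⟨a, b, c⟩ | ⟨a, b, c⟩
    · left
      rw [a, b, c]; exact (D.ev_mod 1 _ _).symm
    · right
      rw [a, b, c]; exact (D.ev_mod (2 * 1) _ _).symm

theorem e_pow_ev (j : Fin 3) (k : ℕ) :
    D.e j ^ k = D.ev (if j = 0 then k else 0) (if j = 1 then k else 0) (if j = 2 then k else 0) := by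
  rcases j with ⟨_ | _ | _ | j, hj⟩
  · exact (D.ev_e0 k).symm
  · exact (D.ev_e1 k).symm
  · exact (D.ev_e2 k).symm
  · omega

theorem weight_three {a b c : ℕ} (ha : ¬ 3 ∣ a) (hb : ¬ 3 ∣ b) (hc : ¬ 3 ∣ c) :
    ∃ s t, D.ev a b c = D.y s t ∨ D.ev a b c = (D.y s t)⁻¹ := by
  have two : ∀ {n : ℕ}, ¬ 3 ∣ n → ∃ u : Bool, n % 3 = pw u := fun {n} h => by
    rcases (show n % 3 = 1 ∨ n % 3 = 2 by omega) with e | e
    exacts [⟨false, e⟩, ⟨true, e⟩]
  rcases (show a % 3 = 1 ∨ a % 3 = 2 by omega) with e | e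
  · obtain ⟨s, hs⟩ := two hb
    obtain ⟨t, ht⟩ := two hc
    exact ⟨s, t, Or.inl (by rw [D.ev_mod, e, hs, ht, D.y_ev])⟩
  · obtain ⟨s, hs⟩ := two (show ¬ 3 ∣ 2 * b by omega)
    obtain ⟨t, ht⟩ := two (show ¬ 3 ∣ 2 * c by omega)
    refine ⟨s, t, Or.inr ?_⟩
    rw [D.y_ev, D.ev_inv, D.ev_mod a, D.ev_mod (2 * 1), e]
    congr 1 <;> omega

theorem perm_three : ∀ σ : Equiv.Perm (Fin 3),
    (σ 0, σ 1, σ 2) ∈ ([(0, 1, 2), (1, 0, 2), (0, 2, 1), (2, 1, 0), (1, 2, 0), (2, 0, 1)] :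
      List (Fin 3 × Fin 3 × Fin 3)) := by decide

theorem y_image {n : H} (hn : n ∈ D.Nf) (s t : Bool) :
    ∃ s' t', n * D.y s t * n⁻¹ = D.y s' t' ∨ n * D.y s t * n⁻¹ = (D.y s' t')⁻¹ := by
  obtain ⟨σ, hσ⟩ := D.mono n fun i => D.Nf_conj hn (D.e_mem i)
  have hk : ∀ i, ∃ k, ¬ 3 ∣ k ∧ n * D.e i * n⁻¹ = D.e (σ i) ^ k := fun i => by
    rcases hσ i with e | e
    · exact ⟨1, by norm_num, by rw [e, pow_one]⟩
    · exact ⟨2, by norm_num, by rw [e, inv_eq_sq (D.cube _)]⟩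
  choose k hk3 hke using hk
  have h3 : ∀ {x y : ℕ}, ¬ 3 ∣ x → ¬ 3 ∣ y → ¬ 3 ∣ x * y := fun {x y} hx hy h =>
    ((Nat.Prime.dvd_mul Nat.prime_three).1 h).elim hx hy
  have e : n * D.y s t * n⁻¹ = D.e (σ 0) ^ k 0 * D.e (σ 1) ^ (k 1 * pw s) * D.e (σ 2) ^ (k 2 * pw t) := by
    rw [pow_mul, pow_mul, ← hke, ← hke, ← hke, conj_pow, conj_pow, y]; group
  rw [e, D.e_pow_ev, D.e_pow_ev, D.e_pow_ev, D.ev_mul, D.ev_mul]
  refine D.weight_three ?_ ?_ ?_ <;>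
  · have hmem := perm_three σ
    simp only [List.mem_cons, List.not_mem_nil, or_false, Prod.mk.injEq] at hmem
    rcases hmem with ⟨a, b, c⟩ | ⟨a, b, c⟩ | ⟨a, b, c⟩ | ⟨a, b, c⟩ | ⟨a, b, c⟩ | ⟨a, b, c⟩ <;>
      simp only [a, b, c] <;> simp (config := { decide := true }) only [if_true, if_false, add_zero, zero_add] <;>
      first
        | exact hk3 0
        | exact h3 (hk3 1) (pw_ne s)
        | exact h3 (hk3 2) (pw_ne t)

end Data

end Cfsg.Agent.O8Three.Cube
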