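import Cfsg.Agent.Lib.O8Three.Cube.Pairs
import Cfsg.Agent.Lib.O8Three.Cube.Norm
import Cfsg.Agent.Lib.O8Three.Cube.Model
import Mathlib.GroupTheory.GroupAction.Quotient

/-!
S3372: the product of the four groups of order eight and the coordinates of its image modulo the involution.
-/

set_option autoImplicit false
set_option linter.style.haveILetI false
set_option linter.unusedSectionVars false

namespace Cfsg.Agent.O8Three.Cube

open Subgroup
open Cfsg.Agent.O8Three.Closed (V Code app mulC)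

theorem prd_step {X : Type*} [Group X] {a b c d a' b' c' d' : X} (h1 : d * a' = a' * d) (h2 : c * a' = a' * c)
    (h3 : b * a' = a' * b) (h4 : d * b' = b' * d) (h5 : c * b' = b' * c) (h6 : d * c' = c' * d) :
    a * b * c * d * (a' * b' * c' * d') = a * a' * (b * b') * (c * c') * (d * d') := by
  calc a * b * c * d * (a' * b' * c' * d') = a * b * c * (d * a') * b' * c' * d' := by group
    _ = a * b * (c * a') * d * b' * c' * d' := by rw [h1]; group
    _ = a * (b * a') * c * (d * b') * c' * d' := by rw [h2]; group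
    _ = a * a' * b * (c * b') * d * c' * d' := by rw [h3, h4]; group
    _ = a * a' * b * b' * c * (d * c') * d' := by rw [h5]; group
    _ = _ := by rw [h6]; group

/-- The product of four elements indexed by pairs of signs. -/
def prd {X : Type*} [Group X] (c : Bool → Bool → X) : X :=
  c false false * c false true * c true false * c true true

theorem prd_eq_single {X : Type*} [Group X] {c : Bool → Bool → X} (s t : Bool)
    (h : ∀ u v, (u, v) ≠ (s, t) → c u v = 1) : prd c = c s t := by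
  have h' := fun u v (h0 : (u, v) ≠ (s, t)) => h u v h0
  cases s <;> cases t <;> simp [prd, h' false false, h' false true, h' true false, h' true true]

namespace Data

variable {H : Type*} [Group H] (D : Data H) [Finite H]

/-- The product of the four groups. -/
noncomputable def WW : Subgroup H :=
  D.W false false ⊔ D.W false true ⊔ D.W true false ⊔ D.W true true

theorem W_le_WW (s t : Bool) : D.W s t ≤ D.WW := by
  cases s <;> cases t
  · exact le_sup_of_le_left (le_sup_of_le_left le_sup_left)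
  · exact le_sup_of_le_left (le_sup_of_le_left le_sup_right)
  · exact le_sup_of_le_left le_sup_right
  · exact le_sup_right

theorem z_mem_WW : D.z ∈ D.WW := D.W_le_WW false false (D.z_mem_W false false)

/-- The image of the product. -/
noncomputable def U : Subgroup (H ⧸ D.Z) := D.WW.map D.π

theorem WX_le_U (s t : Bool) : D.WX s t ≤ D.U := map_mono (D.W_le_WW s t)

theorem WX_comm_all {s t s' t' : Bool} {x x' : H ⧸ D.Z} (hx : x ∈ D.WX s t) (hx' : x' ∈ D.WX s' t') :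
    x * x' = x' * x := by
  by_cases h : (s, t) = (s', t')
  · obtain ⟨rfl, rfl⟩ := Prod.mk.inj h
    exact D.WX_comm hx hx'
  · obtain ⟨w, hw, rfl⟩ := hx
    obtain ⟨w', hw', rfl⟩ := hx'
    rw [← map_mul, ← map_mul, D.W_comm h hw hw']

/-- A family of components. -/
def Fam (c : Bool → Bool → H ⧸ D.Z) : Prop := ∀ s t, c s t ∈ D.WX s t

theorem prd_mul {c d : Bool → Bool → H ⧸ D.Z} (hc : D.Fam c) (hd : D.Fam d) :
    prd c * prd d = prd (fun s t => c s t * d s t) :=
  prd_step (D.WX_comm_all (hc _ _) (hd _ _)) (D.WX_comm_all (hc _ _) (hd _ _))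
    (D.WX_comm_all (hc _ _) (hd _ _)) (D.WX_comm_all (hc _ _) (hd _ _))
    (D.WX_comm_all (hc _ _) (hd _ _)) (D.WX_comm_all (hc _ _) (hd _ _))

theorem prd_sq {c : Bool → Bool → H ⧸ D.Z} (hc : D.Fam c) : prd c * prd c = 1 := by
  rw [D.prd_mul hc hc, prd]
  simp [D.WX_sq (hc _ _)]

theorem prd_mem {c : Bool → Bool → H ⧸ D.Z} (hc : D.Fam c) : prd c ∈ D.U :=
  mul_mem (mul_mem (mul_mem (D.WX_le_U _ _ (hc _ _)) (D.WX_le_U _ _ (hc _ _))) (D.WX_le_U _ _ (hc _ _)))
    (D.WX_le_U _ _ (hc _ _))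

theorem U_dec {x : H ⧸ D.Z} (hx : x ∈ D.U) : ∃ c, D.Fam c ∧ prd c = x := by
  let S : Subgroup (H ⧸ D.Z) :=
    { carrier := {x | ∃ c, D.Fam c ∧ prd c = x}
      one_mem' := ⟨fun _ _ => 1, fun _ _ => one_mem _, by simp [prd]⟩
      mul_mem' := by
        rintro _ _ ⟨c, hc, rfl⟩ ⟨d, hd, rfl⟩
        exact ⟨_, fun s t => mul_mem (hc s t) (hd s t), (D.prd_mul hc hd).symm⟩
      inv_mem' := by
        rintro _ ⟨c, hc, rfl⟩
        exact ⟨c, hc, (inv_eq_of_mul_eq_one_right (D.prd_sq hc)).symm⟩ }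
  have key : ∀ s t, D.WX s t ≤ S := fun s t w hw => by
    refine ⟨fun u v => if (u, v) = (s, t) then w else 1, fun u v => ?_, ?_⟩
    · by_cases h : (u, v) = (s, t)
      · obtain ⟨rfl, rfl⟩ := Prod.mk.inj h
        simpa using hw
      · simp [h]
    · rw [prd_eq_single s t fun u v h => if_neg h, if_pos rfl]
  have hle : D.U ≤ S := by
    rw [U, WW, Subgroup.map_sup, Subgroup.map_sup, Subgroup.map_sup]
    exact sup_le (sup_le (sup_le (key _ _) (key _ _)) (key _ _)) (key _ _)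
  exact hle hx

theorem U_sq {x : H ⧸ D.Z} (hx : x ∈ D.U) : x * x = 1 := by
  obtain ⟨c, hc, rfl⟩ := D.U_dec hx
  exact D.prd_sq hc

theorem U_comm {x y : H ⧸ D.Z} (hx : x ∈ D.U) (hy : y ∈ D.U) : x * y = y * x := by
  have h := inv_eq_of_mul_eq_one_right (D.U_sq (mul_mem hx hy))
  rw [mul_inv_rev, inv_eq_of_mul_eq_one_right (D.U_sq hx), inv_eq_of_mul_eq_one_right (D.U_sq hy)] at h
  exact h.symm

theorem conj_prd {c : Bool → Bool → H ⧸ D.Z} (k : H ⧸ D.Z) :
    k * prd c * k⁻¹ = prd (fun s t => k * c s t * k⁻¹) := by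
  simp only [prd]; group

/-- The displacement by the element of weight three at a line. -/
def mv (s t : Bool) (x : H ⧸ D.Z) : H ⧸ D.Z := x * (D.π (D.y s t) * x * (D.π (D.y s t))⁻¹)

theorem y_mem (s t : Bool) : D.y s t ∈ D.E := by rw [D.y_ev]; exact D.ev_mem _ _ _

theorem mv_mem {s t u v : Bool} {x : H ⧸ D.Z} (hx : x ∈ D.WX u v) : D.mv s t x ∈ D.WX u v :=
  mul_mem hx (D.WX_norm hx (D.y_mem s t))

theorem mv_self {s t : Bool} {x : H ⧸ D.Z} (hx : x ∈ D.WX s t) : D.mv s t x = 1 := by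
  rw [mv, D.y_conj hx, D.WX_sq hx]

theorem mv_ne {s t u v : Bool} (h : (s, t) ≠ (u, v)) {x : H ⧸ D.Z} (hx : x ∈ D.WX u v) (h1 : x ≠ 1) :
    D.mv s t x ≠ 1 := fun e => h1 (by
  refine D.WX_fix hx (pw_dot_ne s t u v h) ?_
  rw [← D.y_ev, ← mul_inv_eq_iff_eq_mul]
  exact (eq_inv_of_mul_eq_one_right e).trans (inv_eq_of_mul_eq_one_right (D.WX_sq hx)))

theorem mv_one (s t : Bool) : D.mv s t 1 = 1 := by simp [mv]

theorem mv_prd (s t : Bool) {c : Bool → Bool → H ⧸ D.Z} (hc : D.Fam c) :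
    D.mv s t (prd c) = prd (fun u v => D.mv s t (c u v)) := by
  rw [mv, D.conj_prd, D.prd_mul hc fun u v => D.WX_norm (hc u v) (D.y_mem s t)]
  rfl

/-- A component of a member of an invariant subgroup. -/
theorem component {K : Subgroup (H ⧸ D.Z)} (hK : ∀ g ∈ D.E, ∀ x ∈ K, D.π g * x * (D.π g)⁻¹ ∈ K)
    {c : Bool → Bool → H ⧸ D.Z} (hc : D.Fam c) (h : prd c ∈ K) (s t : Bool) :
    ∃ d ∈ D.WX s t, d ∈ K ∧ (c s t ≠ 1 → d ≠ 1) := by
  set g : H ⧸ D.Z → H ⧸ D.Z := fun x => D.mv (!s) t (D.mv s (!t) (D.mv (!s) (!t) x)) with hg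
  have hgK : ∀ x ∈ K, g x ∈ K := by
    have : ∀ u v, ∀ x ∈ K, D.mv u v x ∈ K := fun u v x hx => mul_mem hx (hK _ (D.y_mem u v) x hx)
    exact fun x hx => this _ _ _ (this _ _ _ (this _ _ _ hx))
  refine ⟨g (c s t), D.mv_mem (D.mv_mem (D.mv_mem (hc s t))), ?_, fun h1 => ?_⟩
  · have e : g (prd c) = g (c s t) := by
      have f1 : D.Fam (fun u v => D.mv (!s) (!t) (c u v)) := fun u v => D.mv_mem (hc u v)
      have f2 : D.Fam (fun u v => D.mv s (!t) (D.mv (!s) (!t) (c u v))) := fun u v => D.mv_mem (f1 u v)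
      simp only [hg]
      rw [D.mv_prd _ _ hc, D.mv_prd _ _ f1, D.mv_prd _ _ f2]
      refine prd_eq_single (c := fun u v => D.mv (!s) t (D.mv s (!t) (D.mv (!s) (!t) (c u v)))) s t fun u v hne => ?_
      rcases bool_cases s t u v (Ne.symm hne) with ⟨rfl, rfl⟩ | ⟨rfl, rfl⟩ | ⟨rfl, rfl⟩
      · rw [D.mv_self (D.mv_mem (hc _ _)), D.mv_one]
      · exact D.mv_self (D.mv_mem (D.mv_mem (hc _ _)))
      · rw [D.mv_self (hc _ _), D.mv_one, D.mv_one]
    exact e ▸ hgK _ h
  · have n1 : (!s, t) ≠ (s, t) := by cases s <;> simp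
    have n2 : (s, !t) ≠ (s, t) := by cases t <;> simp
    have n3 : (!s, !t) ≠ (s, t) := by cases s <;> simp
    exact D.mv_ne n1 (D.mv_mem (D.mv_mem (hc s t)))
      (D.mv_ne n2 (D.mv_mem (hc s t)) (D.mv_ne n3 (hc s t) h1))

theorem prd_eq_one {c : Bool → Bool → H ⧸ D.Z} (hc : D.Fam c) (h : prd c = 1) (s t : Bool) : c s t = 1 := by
  by_contra hne
  obtain ⟨d, -, hd, hd1⟩ := D.component (K := ⊥)
    (fun g _ x hx => by rw [mem_bot.1 hx, mul_one, mul_inv_cancel]; exact one_mem _) hc (mem_bot.2 h) s t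
  exact hd1 hne (mem_bot.1 hd)

theorem prd_inj {c d : Bool → Bool → H ⧸ D.Z} (hc : D.Fam c) (hd : D.Fam d) (h : prd c = prd d) (s t : Bool) :
    c s t = d s t := by
  have h1 : prd (fun s t => c s t * d s t) = 1 := by rw [← D.prd_mul hc hd, h, D.prd_sq hd]
  have h2 := D.prd_eq_one (fun s t => mul_mem (hc s t) (hd s t)) h1 s t
  rw [eq_inv_of_mul_eq_one_left h2, inv_eq_of_mul_eq_one_right (D.WX_sq (hd s t))]

theorem card_U : Nat.card D.U = 256 := by
  let P := D.WX false false × D.WX false true × D.WX true false × D.WX true true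
  let mk : P → (Bool → Bool → H ⧸ D.Z) := fun p s t =>
    match s, t with
    | false, false => p.1.1
    | false, true => p.2.1.1
    | true, false => p.2.2.1.1
    | true, true => p.2.2.2.1
  have hmk : ∀ p, D.Fam (mk p) := fun p s t => by cases s <;> cases t <;> simp [mk]
  let f : P → D.U := fun p => ⟨prd (mk p), D.prd_mem (hmk p)⟩
  have hf : Function.Bijective f := by
    constructor
    · intro p q h
      have h' := D.prd_inj (hmk p) (hmk q) (congrArg Subtype.val h)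
      exact Prod.ext (Subtype.ext (h' false false)) (Prod.ext (Subtype.ext (h' false true))
        (Prod.ext (Subtype.ext (h' true false)) (Subtype.ext (h' true true))))
    · rintro ⟨x, hx⟩
      obtain ⟨c, hc, rfl⟩ := D.U_dec hx
      exact ⟨(⟨_, hc false false⟩, ⟨_, hc false true⟩, ⟨_, hc true false⟩, ⟨_, hc true true⟩), Subtype.ext rfl⟩
  rw [← Nat.card_eq_of_bijective f hf]
  simp only [P, Nat.card_prod, D.card_WX]

theorem card_WW : Nat.card D.WW = 512 := by
  rw [D.card_map_π D.z_mem_WW, ← U, D.card_U]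

theorem WW_norm {n : H} (hn : n ∈ D.Nf) {x : H} (hx : x ∈ D.WW) : n * x * n⁻¹ ∈ D.WW := by
  have key : ∀ s t, D.W s t ≤ D.WW.comap (MulAut.conj n).toMonoidHom := fun s t w hw => by
    obtain ⟨s', t', h⟩ := D.y_image hn s t
    exact D.W_le_WW _ _ (D.conj_W' hn h hw)
  have : D.WW ≤ D.WW.comap (MulAut.conj n).toMonoidHom :=
    sup_le (sup_le (sup_le (key _ _) (key _ _)) (key _ _)) (key _ _)
  exact this hx

theorem U_norm {n : H} (hn : n ∈ D.Nf) {x : H ⧸ D.Z} (hx : x ∈ D.U) : D.π n * x * (D.π n)⁻¹ ∈ D.U := by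
  obtain ⟨w, hw, rfl⟩ := hx
  exact ⟨_, D.WW_norm hn hw, by rw [map_mul, map_mul, map_inv]⟩

theorem U_norm_ev {x : H ⧸ D.Z} (hx : x ∈ D.U) (a b c : ℕ) :
    D.π (D.ev a b c) * x * (D.π (D.ev a b c))⁻¹ ∈ D.U := D.U_norm (D.E_le_Nf (D.ev_mem a b c)) hx

/-- The image of a component family under a change of sign. -/
theorem exists_generator : ∃ v ∈ D.U, (∀ t ∈ D.T, D.π t * v * (D.π t)⁻¹ = v) ∧
    ∃ c, D.Fam c ∧ prd c = v ∧ ∀ s t, c s t ≠ 1 := by
  classical
  haveI : Fact (Nat.Prime 2) := ⟨Nat.prime_two⟩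
  letI : MulAction D.T D.U :=
    { smul := fun t u => ⟨D.π t * u * (D.π t)⁻¹, D.U_norm (D.N_le_Nf (D.T_le t.2)) u.2⟩
      one_smul := fun u => Subtype.ext (show D.π (1 : D.T) * u.1 * (D.π (1 : D.T))⁻¹ = u.1 by simp)
      mul_smul := fun a b u => Subtype.ext (show D.π (a * b : D.T) * u.1 * (D.π (a * b : D.T))⁻¹ =
        D.π a * (D.π b * u.1 * (D.π b)⁻¹) * (D.π a)⁻¹ by rw [Subgroup.coe_mul, map_mul]; group) }
  have h1 : (1 : D.U) ∈ MulAction.fixedPoints D.T D.U := fun t =>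
    Subtype.ext (show D.π t * 1 * (D.π t)⁻¹ = 1 by group)
  obtain ⟨v, hv, hne⟩ := D.T_two.exists_fixed_point_of_prime_dvd_card_of_fixed_point D.U
    (by rw [D.card_U]; norm_num) h1
  have hfix : ∀ t ∈ D.T, D.π t * v.1 * (D.π t)⁻¹ = v.1 := fun t ht => congrArg Subtype.val (hv ⟨t, ht⟩)
  obtain ⟨c, hc, e⟩ := D.U_dec v.2
  refine ⟨v.1, v.2, hfix, c, hc, e, ?_⟩
  have img : ∀ (n : H) (p q r : Bool), n * D.e 0 * n⁻¹ = D.e 0 ^ pw p → n * D.e 1 * n⁻¹ = D.e 1 ^ pw q →
      n * D.e 2 * n⁻¹ = D.e 2 ^ pw r → ∀ s t, D.π n * c s t * (D.π n)⁻¹ ∈ D.WX (xor s (xor p q)) (xor t (xor p r)) := by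
    intro n p q r h0 h1 h2 s t
    obtain ⟨w, hw, e'⟩ := hc s t
    exact ⟨_, D.conj_W h0 h1 h2 hw, by rw [← e', map_mul, map_mul, map_inv]⟩
  have q0 : ∀ i j : Fin 3, j ≠ i → D.nf i * D.e j * (D.nf i)⁻¹ = D.e j ^ pw false := fun i j h => by
    rw [D.nf_other h, pw, pow_one]
  have q1 : ∀ i : Fin 3, D.nf i * D.e i * (D.nf i)⁻¹ = D.e i ^ pw true := fun i => by
    rw [D.nf_self, pw, inv_eq_sq (D.cube i)]
  have m1 := img (D.nf 1) false true false (q0 1 0 (by decide)) (q1 1) (q0 1 2 (by decide))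
  have m2 := img (D.nf 2) false false true (q0 2 0 (by decide)) (q0 2 1 (by decide)) (q1 2)
  have s1 : ∀ s t, c s t = 1 → c (!s) t = 1 := by
    intro s t h
    have hd : D.Fam (fun s t => D.π (D.nf 1) * c (!s) t * (D.π (D.nf 1))⁻¹) := fun s t => by
      simpa using m1 (!s) t
    have he : prd c = prd (fun s t => D.π (D.nf 1) * c (!s) t * (D.π (D.nf 1))⁻¹) := by
      rw [← D.conj_prd]
      have : prd (fun s t => c (!s) t) = prd c := by
        have hcd : Commute (c true false * c true true) (c false false * c false true) :=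
          ((Commute.mul_right (show Commute (c true false) (c false false) from D.WX_comm_all (hc _ _) (hc _ _))
            (show Commute (c true false) (c false true) from D.WX_comm_all (hc _ _) (hc _ _))).mul_left
          (Commute.mul_right (show Commute (c true true) (c false false) from D.WX_comm_all (hc _ _) (hc _ _))
            (show Commute (c true true) (c false true) from D.WX_comm_all (hc _ _) (hc _ _))))
        simp only [prd, Bool.not_false, Bool.not_true]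
        rw [mul_assoc _ (c false false), hcd.eq, ← mul_assoc]
      rw [this, e, hfix _ (D.nf_mem 1)]
    have := D.prd_inj hc hd he (!s) t
    simp only [Bool.not_not] at this
    rw [this, h]; group
  have s2 : ∀ s t, c s t = 1 → c s (!t) = 1 := by
    intro s t h
    have hd : D.Fam (fun s t => D.π (D.nf 2) * c s (!t) * (D.π (D.nf 2))⁻¹) := fun s t => by
      simpa using m2 s (!t)
    have he : prd c = prd (fun s t => D.π (D.nf 2) * c s (!t) * (D.π (D.nf 2))⁻¹) := by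
      rw [← D.conj_prd]
      have : prd (fun s t => c s (!t)) = prd c := by
        simp only [prd, Bool.not_false, Bool.not_true]
        rw [D.WX_comm_all (hc false true) (hc false false), mul_assoc _ (c true true),
          D.WX_comm_all (hc true true) (hc true false), ← mul_assoc]
      rw [this, e, hfix _ (D.nf_mem 2)]
    have := D.prd_inj hc hd he s (!t)
    simp only [Bool.not_not] at this
    rw [this, h]; group
  intro s t hst
  have h00 : c false false = 1 := by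
    cases s <;> cases t
    · exact hst
    · exact s2 _ _ hst
    · exact s1 _ _ hst
    · exact s1 _ _ (s2 _ _ hst)
  refine hne (Subtype.ext ?_)
  show (1 : H ⧸ D.Z) = v.1
  rw [← e, prd, h00, show c false true = 1 from s2 _ _ h00, show c true false = 1 from s1 _ _ h00,
    show c true true = 1 from s1 _ _ (s2 _ _ h00)]
  simp

/-- The generator. -/
noncomputable def gen : H ⧸ D.Z := D.exists_generator.choose

theorem gen_mem : D.gen ∈ D.U := D.exists_generator.choose_spec.1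

theorem gen_fix {t : H} (ht : t ∈ D.T) : D.π t * D.gen * (D.π t)⁻¹ = D.gen :=
  D.exists_generator.choose_spec.2.1 t ht

theorem gen_full {K : Subgroup (H ⧸ D.Z)} (hK : ∀ g ∈ D.E, ∀ x ∈ K, D.π g * x * (D.π g)⁻¹ ∈ K)
    (h : D.gen ∈ K) : D.U ≤ K := by
  obtain ⟨c, hc, e, hne⟩ := D.exists_generator.choose_spec.2.2
  have key : ∀ s t, D.WX s t ≤ K := fun s t => by
    obtain ⟨d, hd, hdK, hd1⟩ := D.component hK hc (by rw [e]; exact h) s t
    exact D.WX_gen hd (hd1 (hne s t)) hdK (hK _ (D.ev_mem _ _ _) _ hdK)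
  intro x hx
  obtain ⟨d, hd, rfl⟩ := D.U_dec hx
  exact mul_mem (mul_mem (mul_mem (key _ _ (hd _ _)) (key _ _ (hd _ _))) (key _ _ (hd _ _))) (key _ _ (hd _ _))

/-- An element of `E` without fixed lines has no fixed points. -/
theorem U_fix {a b c : ℕ} (h : ∀ s t, ¬ 3 ∣ a + b * pw s + c * pw t) {x : H ⧸ D.Z} (hx : x ∈ D.U)
    (hf : D.π (D.ev a b c) * x * (D.π (D.ev a b c))⁻¹ = x) : x = 1 := by
  obtain ⟨d, hd, rfl⟩ := D.U_dec hx
  rw [D.conj_prd] at hf
  have h1 : ∀ s t, d s t = 1 := fun s t =>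
    D.WX_fix (hd s t) (h s t) (mul_inv_eq_iff_eq_mul.1
      (D.prd_inj (fun s t => D.WX_norm (hd s t) (D.ev_mem _ _ _)) hd hf s t))
  simp [prd, h1]

/-- The conjugate of the generator with given coordinates. -/
noncomputable def pt (a b c : ℕ) : H ⧸ D.Z := D.π (D.ev a b c) * D.gen * (D.π (D.ev a b c))⁻¹

theorem pt_mem (a b c : ℕ) : D.pt a b c ∈ D.U := D.U_norm_ev D.gen_mem a b c

theorem pt_mod (a b c : ℕ) : D.pt a b c = D.pt (a % 3) (b % 3) (c % 3) := by
  unfold pt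
  rw [D.ev_mod]

theorem conj_pt (i j k a b c : ℕ) :
    D.π (D.ev i j k) * D.pt a b c * (D.π (D.ev i j k))⁻¹ = D.pt (i + a) (j + b) (k + c) := by
  rw [pt, pt, ← D.ev_mul, map_mul]; group

theorem pt_rel (i j k a b c : ℕ) (h : ∀ s t, ¬ 3 ∣ i + j * pw s + k * pw t) :
    D.pt (i + i + a) (j + j + b) (k + k + c) = D.pt a b c * D.pt (i + a) (j + b) (k + c) := by
  have e : D.pt a b c * D.pt (i + a) (j + b) (k + c) * D.pt (i + i + a) (j + j + b) (k + k + c) = 1 := by
    refine D.U_fix h (mul_mem (mul_mem (D.pt_mem _ _ _) (D.pt_mem _ _ _)) (D.pt_mem _ _ _)) ?_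
    set g := D.π (D.ev i j k) with hg
    have e3 : D.pt (i + (i + i + a)) (j + (j + j + b)) (k + (k + k + c)) = D.pt a b c := by
      rw [D.pt_mod, D.pt_mod a b c]
      congr 1 <;> omega
    calc g * (D.pt a b c * D.pt (i + a) (j + b) (k + c) * D.pt (i + i + a) (j + j + b) (k + k + c)) * g⁻¹
        = g * D.pt a b c * g⁻¹ * (g * D.pt (i + a) (j + b) (k + c) * g⁻¹) *
          (g * D.pt (i + i + a) (j + j + b) (k + k + c) * g⁻¹) := by group
      _ = D.pt (i + a) (j + b) (k + c) * D.pt (i + (i + a)) (j + (j + b)) (k + (k + c)) * D.pt a b c := by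
        rw [hg, D.conj_pt, D.conj_pt, D.conj_pt, e3]
      _ = D.pt a b c * (D.pt (i + a) (j + b) (k + c) * D.pt (i + i + a) (j + j + b) (k + k + c)) := by
        rw [← add_assoc i i a, ← add_assoc j j b, ← add_assoc k k c]
        exact D.U_comm (mul_mem (D.pt_mem _ _ _) (D.pt_mem _ _ _)) (D.pt_mem _ _ _)
      _ = _ := by group
  rw [eq_inv_of_mul_eq_one_right e]
  exact inv_eq_of_mul_eq_one_right (D.U_sq (mul_mem (D.pt_mem _ _ _) (D.pt_mem _ _ _)))

/-- The images of the basis. -/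
noncomputable def gv (a b c : Bool) : H ⧸ D.Z := D.pt (bx a) (bx b) (bx c)

/-- The coordinates of the image of the product. -/
noncomputable def F (v : V) : H ⧸ D.Z := fcomb D.gv 8 v

theorem F_xor (u v : V) : D.F (u ^^^ v) = D.F u * D.F v :=
  fcomb_xor (fun _ _ _ _ _ _ => D.U_comm (D.pt_mem _ _ _) (D.pt_mem _ _ _))
    (fun _ _ _ => D.U_sq (D.pt_mem _ _ _)) u v 8

theorem F_uv (a b c : Bool) : D.F (uv a b c) = D.gv a b c := fcomb_uv _ a b c

theorem F_mem (v : V) : D.F v ∈ D.U := by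
  have : ∀ n, fcomb D.gv n v ∈ D.U := by
    intro n
    induction n with
    | zero => exact one_mem _
    | succ n ih =>
      simp only [fcomb]
      refine mul_mem ih ?_
      split
      · exact D.pt_mem _ _ _
      · exact one_mem _
  exact this 8

/-- An element of the group induces the map of a code. -/
def Acts (m : H) (c : Code) : Prop := ∀ v, D.π m * D.F v * (D.π m)⁻¹ = D.F (app c v)

theorem acts_of_uv {m : H} {c : Code}
    (h : ∀ a b d, D.π m * D.gv a b d * (D.π m)⁻¹ = D.F (app c (uv a b d))) : D.Acts m c :=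
  hom_ext (F := fun v => D.π m * D.F v * (D.π m)⁻¹) (G := fun v => D.F (app c v))
    (fun u v => by simp only [D.F_xor]; group) (fun u v => by simp only [app_xor, D.F_xor])
    (fun a b d => by simp only [D.F_uv]; exact h a b d)

theorem acts_mul {m n : H} {c d : Code} (hm : D.Acts m c) (hn : D.Acts n d) : D.Acts (m * n) (mulC c d) := by
  intro v
  rw [map_mul, app_mulC, ← hm, ← hn]; group

theorem acts_one : D.Acts 1 Closed.eC := fun v => by rw [map_one, app_eC]; group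

theorem acts_e0 : D.Acts (D.e 0) (4, 0, 0) := D.acts_of_uv fun a b d => by
  rw [show D.e 0 = D.ev 1 0 0 by rw [D.ev_e0, pow_one], gv, D.conj_pt]
  cases a
  · rw [(uv_gen0 b d).1, D.F_uv, gv]
    congr 1 <;> simp [bx]
  · rw [(uv_gen0 b d).2.1, D.F_xor, D.F_uv, D.F_uv, gv, gv]
    simpa [bx] using D.pt_rel 1 0 0 0 (bx b) (bx d) (fun s t => by simp)

theorem acts_e1 : D.Acts (D.e 1) (0, 4, 0) := D.acts_of_uv fun a b d => by
  rw [show D.e 1 = D.ev 0 1 0 by rw [D.ev_e1, pow_one], gv, D.conj_pt]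
  cases b
  · rw [(uv_gen1 a d).1, D.F_uv, gv]
    congr 1 <;> simp [bx]
  · rw [(uv_gen1 a d).2.1, D.F_xor, D.F_uv, D.F_uv, gv, gv]
    simpa [bx] using D.pt_rel 0 1 0 (bx a) 0 (bx d) (fun s t => by simpa using pw_ne s)

theorem acts_e2 : D.Acts (D.e 2) (0, 0, 4) := D.acts_of_uv fun a b d => by
  rw [show D.e 2 = D.ev 0 0 1 by rw [D.ev_e2, pow_one], gv, D.conj_pt]
  cases d
  · rw [(uv_gen2 a b).1, D.F_uv, gv]
    congr 1 <;> simp [bx]
  · rw [(uv_gen2 a b).2.1, D.F_xor, D.F_uv, D.F_uv, gv, gv]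
    simpa [bx] using D.pt_rel 0 0 1 (bx a) (bx b) 0 (fun s t => by simpa using pw_ne t)

theorem conj_pt_flip {n : H} (hn : n ∈ D.T) {p q r : Bool} (h0 : n * D.e 0 * n⁻¹ = D.e 0 ^ pw p)
    (h1 : n * D.e 1 * n⁻¹ = D.e 1 ^ pw q) (h2 : n * D.e 2 * n⁻¹ = D.e 2 ^ pw r) (a b c : ℕ) :
    D.π n * D.pt a b c * (D.π n)⁻¹ = D.pt (pw p * a) (pw q * b) (pw r * c) := by
  conv_rhs => rw [pt, ← D.e_conj h0 h1 h2, map_mul, map_mul, map_inv, ← D.gen_fix hn]
  rw [pt]; group

theorem nf_pw (i j : Fin 3) : D.nf i * D.e j * (D.nf i)⁻¹ = D.e j ^ pw (decide (j = i)) := by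
  by_cases h : j = i
  · subst h
    rw [decide_eq_true rfl, D.nf_self, pw, inv_eq_sq (D.cube j)]
  · rw [decide_eq_false h, D.nf_other h, pw, pow_one]

theorem acts_n0 : D.Acts (D.nf 0) (2, 0, 0) := D.acts_of_uv fun a b d => by
  rw [gv, D.conj_pt_flip (D.nf_mem 0) (D.nf_pw 0 0) (D.nf_pw 0 1) (D.nf_pw 0 2)]
  cases a
  · rw [(uv_gen0 b d).2.2.1, D.F_uv, gv]
    congr 1 <;> simp [bx, pw]
  · rw [(uv_gen0 b d).2.2.2, D.F_xor, D.F_uv, D.F_uv, gv, gv]
    simpa [bx, pw] using D.pt_rel 1 0 0 0 (bx b) (bx d) (fun s t => by simp)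

theorem acts_n1 : D.Acts (D.nf 1) (0, 2, 0) := D.acts_of_uv fun a b d => by
  rw [gv, D.conj_pt_flip (D.nf_mem 1) (D.nf_pw 1 0) (D.nf_pw 1 1) (D.nf_pw 1 2)]
  cases b
  · rw [(uv_gen1 a d).2.2.1, D.F_uv, gv]
    congr 1 <;> simp [bx, pw]
  · rw [(uv_gen1 a d).2.2.2, D.F_xor, D.F_uv, D.F_uv, gv, gv]
    simpa [bx, pw] using D.pt_rel 0 1 0 (bx a) 0 (bx d) (fun s t => by simpa using pw_ne s)

theorem acts_n2 : D.Acts (D.nf 2) (0, 0, 2) := D.acts_of_uv fun a b d => by
  rw [gv, D.conj_pt_flip (D.nf_mem 2) (D.nf_pw 2 0) (D.nf_pw 2 1) (D.nf_pw 2 2)]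
  cases d
  · rw [(uv_gen2 a b).2.2.1, D.F_uv, gv]
    congr 1 <;> simp [bx, pw]
  · rw [(uv_gen2 a b).2.2.2, D.F_xor, D.F_uv, D.F_uv, gv, gv]
    simpa [bx, pw] using D.pt_rel 0 0 1 (bx a) (bx b) 0 (fun s t => by simpa using pw_ne t)

theorem acts_E {g : H} (hg : g ∈ D.E) : ∃ c, D.Acts g c := by
  obtain ⟨a, b, c, rfl⟩ := D.mem_E.1 hg
  have hp : ∀ (m : H), (∃ c, D.Acts m c) → ∀ n : ℕ, ∃ c, D.Acts (m ^ n) c := by
    rintro m ⟨d, hd⟩ n
    induction n with
    | zero => exact ⟨_, by rw [pow_zero]; exact D.acts_one⟩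
    | succ n ih =>
      obtain ⟨d', hd'⟩ := ih
      exact ⟨_, by rw [pow_succ]; exact D.acts_mul hd' hd⟩
  obtain ⟨c0, h0⟩ := hp _ ⟨_, D.acts_e0⟩ a
  obtain ⟨c1, h1⟩ := hp _ ⟨_, D.acts_e1⟩ b
  obtain ⟨c2, h2⟩ := hp _ ⟨_, D.acts_e2⟩ c
  exact ⟨_, D.acts_mul (D.acts_mul h0 h1) h2⟩

theorem F_range {x : H ⧸ D.Z} (hx : x ∈ D.U) : ∃ v, D.F v = x := by
  let K : Subgroup (H ⧸ D.Z) :=
    { carrier := Set.range D.F
      one_mem' := ⟨0, hom_zero D.F_xor⟩
      mul_mem' := by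
        rintro _ _ ⟨u, rfl⟩ ⟨v, rfl⟩
        exact ⟨u ^^^ v, D.F_xor u v⟩
      inv_mem' := by
        rintro _ ⟨u, rfl⟩
        exact ⟨u, (inv_eq_of_mul_eq_one_right (D.U_sq (D.F_mem u))).symm⟩ }
  have hK : ∀ g ∈ D.E, ∀ y ∈ K, D.π g * y * (D.π g)⁻¹ ∈ K := by
    rintro g hg _ ⟨v, rfl⟩
    obtain ⟨c, hc⟩ := D.acts_E hg
    exact ⟨_, (hc v).symm⟩
  have hgen : D.gen ∈ K := ⟨uv false false false, by
    rw [D.F_uv, gv, bx, pt, D.ev_zero, map_one]; group⟩
  exact D.gen_full hK hgen hx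

theorem F_inj : Function.Injective D.F := by
  have hb : Function.Surjective (fun v => (⟨D.F v, D.F_mem v⟩ : D.U)) := by
    rintro ⟨x, hx⟩
    obtain ⟨v, e⟩ := D.F_range hx
    exact ⟨v, Subtype.ext e⟩
  have := (Function.Surjective.bijective_of_nat_card_le hb (by rw [D.card_U, Nat.card_fin])).1
  exact fun u v e => this (Subtype.ext e)

end Data

end Cfsg.Agent.O8Three.Cube
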