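import Mathlib.GroupTheory.Sylow
import Mathlib.GroupTheory.SpecificGroups.Cyclic

/-!
S3372: the input for the analysis of the whole centraliser of the involution: an elementary subgroup `E` of order
27 with three coordinates permuted by the normaliser, and the centralisers of the elements of `E`.
-/

set_option autoImplicit false

namespace Cfsg.Agent.O8Three.Cube

open Subgroup

/-- The exponent attached to a sign. -/
def pw : Bool → ℕ
  | false => 1
  | true => 2

/-- A group with a central involution and three commuting elements of order three. The normaliser of their span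
`E` is monomial, contains all changes of sign and a cycle of the coordinates. The centraliser of a coordinate
normalises `E`, those of weight two and three are the products of a normal group of order `32`, respectively `8`,
with parts of the normaliser, and no element of `E` is conjugate to an element of the normaliser outside `E`. -/
structure Data (H : Type*) [Group H] where
  /-- the involution -/
  z : H
  /-- the coordinates -/
  e : Fin 3 → H
  zz : z * z = 1
  z_ne : z ≠ 1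
  central : ∀ h : H, h * z = z * h
  cube : ∀ i, e i ^ 3 = 1
  comm : ∀ i j, e i * e j = e j * e i
  indep : ∀ a b c : ℕ, a < 3 → b < 3 → c < 3 → e 0 ^ a * e 1 ^ b * e 2 ^ c = 1 → a = 0 ∧ b = 0 ∧ c = 0
  flip : ∀ i, ∃ n : H, n * e i * n⁻¹ = (e i)⁻¹ ∧ ∀ j, j ≠ i → n * e j * n⁻¹ = e j
  cycle : ∃ n : H, ∀ i, n * e i * n⁻¹ = e (i + 1)
  mono : ∀ n : H, (∀ i, n * e i * n⁻¹ ∈ closure (Set.range e)) →
    ∃ σ : Equiv.Perm (Fin 3), ∀ i, n * e i * n⁻¹ = e (σ i) ∨ n * e i * n⁻¹ = (e (σ i))⁻¹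
  cent_span : ∀ c : H, (∀ i, c * e i = e i * c) →
    c ∈ closure (Set.range e) ∨ z * c ∈ closure (Set.range e)
  one_norm : ∀ i j, ∀ c ∈ centralizer ({e i} : Set H), c * e j * c⁻¹ ∈ closure (Set.range e)
  two_core : ∀ i j, i ≠ j → ∀ s, ∃ R : Subgroup H, Nat.card R = 32 ∧ z ∈ R ∧
    R ≤ centralizer ({e i * e j ^ pw s} : Set H) ∧
    (∀ c ∈ centralizer ({e i * e j ^ pw s} : Set H), ∀ r ∈ R, c * r * c⁻¹ ∈ R) ∧
    ∀ c ∈ centralizer ({e i * e j ^ pw s} : Set H), ∃ r ∈ R, ∀ k,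
      r⁻¹ * c * e k * (r⁻¹ * c)⁻¹ ∈ closure (Set.range e)
  three_core : ∀ s t, ∃ W : Subgroup H, Nat.card W = 8 ∧ z ∈ W ∧
    W ≤ centralizer ({e 0 * e 1 ^ pw s * e 2 ^ pw t} : Set H) ∧
    (∀ c ∈ centralizer ({e 0 * e 1 ^ pw s * e 2 ^ pw t} : Set H), ∀ x ∈ W, c * x * c⁻¹ ∈ W) ∧
    (∀ c ∈ centralizer ({e 0 * e 1 ^ pw s * e 2 ^ pw t} : Set H), ∃ w ∈ W, ∀ k,
      w⁻¹ * c * e k * (w⁻¹ * c)⁻¹ ∈ closure (Set.range e)) ∧
    (∀ x ∈ W, e 0 * x = x * e 0 → x = 1 ∨ x = z) ∧
    (∀ x ∈ W, e 1 * x * (e 1)⁻¹ = e 0 ^ pw s * x * (e 0 ^ pw s)⁻¹) ∧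
    (∀ x ∈ W, e 2 * x * (e 2)⁻¹ = e 0 ^ pw t * x * (e 0 ^ pw t)⁻¹) ∧
    ∃ x ∈ W, ∃ y ∈ W, x * y ≠ y * x
  outside : ∀ a ∈ closure (Set.range e), a ≠ 1 → ∀ h : H,
    (∀ i, h * a * h⁻¹ * e i * (h * a * h⁻¹)⁻¹ ∈ closure (Set.range e)) →
    h * a * h⁻¹ ∈ closure (Set.range e)

namespace Data

variable {H : Type*} [Group H] (D : Data H)

/-- The subgroup of the coordinates. -/
def E : Subgroup H := closure (Set.range D.e)

end Data

end Cfsg.Agent.O8Three.Cube
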