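import Cfsg.Agent.Lib.O8Three.Cube.Strong
import Cfsg.Agent.Lib.O8Three.Wreath.Hyp

/-!
S3372: from the centralisers of the elements of `E` in the whole centraliser of the involution to the input of the
closing step, with the product as a group of order 512 with centre of order two.
-/

set_option autoImplicit false
set_option linter.style.haveILetI false
set_option linter.unusedSectionVars false
set_option maxRecDepth 10000

namespace Cfsg.Agent.O8Three.Cube

open Subgroup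
open Cfsg.Agent.O8Three.Closed (V Code app mulC eC fz)
open Cfsg.Agent.O8Three.Wreath (CodeW appW mulW permN)

/-- The exponent of the element of order three in a map of the plane. -/
def ex3 (s : Fin 6) : ℕ := [0, 1, 0, 2, 1, 2].getD s.val 0

/-- Whether a map of the plane is odd. -/
def fl2 (s : Fin 6) : Bool := [false, true, true, true, false, false].getD s.val false

/-- The power of a code. -/
def cpow (c : Code) : ℕ → Code
  | 0 => eC
  | n + 1 => mulC (cpow c n) c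

theorem fac_code : ∀ s : Fin 6, mulC (cpow (4, 0, 0) (ex3 s)) (cpow (2, 0, 0) (bx (fl2 s))) = (s, 0, 0) ∧
    mulC (cpow (0, 4, 0) (ex3 s)) (cpow (0, 2, 0) (bx (fl2 s))) = (0, s, 0) ∧
    mulC (cpow (0, 0, 4) (ex3 s)) (cpow (0, 0, 2) (bx (fl2 s))) = (0, 0, s) := by decide +kernel

theorem three_code : ∀ c : Code, mulC (mulC (c.1, 0, 0) (0, c.2.1, 0)) (0, 0, c.2.2) = c := by decide +kernel

theorem index_code : ∀ a : Fin 3, ∀ p : Bool, ∃ s : Fin 6, ex3 s = a.val ∧ fl2 s = p := by decide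

theorem perm_zero : ∀ v : V, fz (permN 0) v = v := by decide +kernel

theorem appW_zero (c : Code) (v : V) : appW (c, 0) v = app c v := by
  unfold Wreath.appW
  rw [perm_zero]

theorem fz_perm_xor (p : Fin 6) (u v : V) : fz (permN p) (u ^^^ v) = fz (permN p) u ^^^ fz (permN p) v := by
  have key : ∀ w : V, ∀ p : Fin 6, permN p w.val = xc (fun b => permN p (2 ^ b)) 8 w.val := by decide +kernel
  apply Fin.ext
  have hv : ∀ x y : V, (x ^^^ y).val = x.val ^^^ y.val := fun x y => Fin.xor_val_of_two_pow (w := 8) x y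
  rw [hv, Closed.fz_val (Wreath.perm_lt _ _), Closed.fz_val (Wreath.perm_lt _ _),
    Closed.fz_val (Wreath.perm_lt _ _), key, key, key, hv, xc_xor]

theorem appW_xor (w : CodeW) (u v : V) : appW w (u ^^^ v) = appW w u ^^^ appW w v := by
  unfold Wreath.appW
  rw [fz_perm_xor, app_xor]

theorem uv_perm : ∀ σ : Equiv.Perm (Fin 3), ∃ p : Fin 6, ∀ a : Fin 3 → Bool,
    appW (eC, p) (uv (a 0) (a 1) (a 2)) = uv (a (σ⁻¹ 0)) (a (σ⁻¹ 1)) (a (σ⁻¹ 2)) := by decide +kernel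

theorem uv_cycle : ∀ a b d : Bool, appW (eC, 4) (uv a b d) = uv d a b := by decide +kernel

theorem flips_fixed : ∀ u : V, app (2, 0, 0) u = u → app (0, 2, 0) u = u → app (0, 0, 2) u = u →
    u = 0 ∨ u = uv false false false := by decide +kernel

theorem sum_perm (σ : Equiv.Perm (Fin 3)) (x : Fin 3 → ℕ) (j : Fin 3) :
    (if σ 0 = j then x 0 else 0) + (if σ 1 = j then x 1 else 0) + (if σ 2 = j then x 2 else 0) = x (σ⁻¹ j) := by
  obtain ⟨i, rfl⟩ := σ.surjective j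
  rw [show σ⁻¹ (σ i) = i from σ.symm_apply_apply i]
  fin_cases i <;> simp [σ.injective.eq_iff]

namespace Data

variable {H : Type*} [Group H] (D : Data H) [Finite H]

/-- A word for a map of the plane at one coordinate. -/
noncomputable def wd (i : Fin 3) (s : Fin 6) : H := D.e i ^ ex3 s * D.nf i ^ bx (fl2 s)

/-- A word for a code. -/
noncomputable def word (c : Code) : H := D.wd 0 c.1 * D.wd 1 c.2.1 * D.wd 2 c.2.2

theorem wd_mem (i : Fin 3) (s : Fin 6) : D.wd i s ∈ D.N :=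
  mul_mem (pow_mem (D.E_le_N (D.e_mem i)) _) (pow_mem (D.T_le (D.nf_mem i)) _)

theorem word_mem (c : Code) : D.word c ∈ D.N :=
  mul_mem (mul_mem (D.wd_mem _ _) (D.wd_mem _ _)) (D.wd_mem _ _)

theorem acts_pow {m : H} {c : Code} (h : D.Acts m c) (n : ℕ) : D.Acts (m ^ n) (cpow c n) := by
  induction n with
  | zero => rw [pow_zero]; exact D.acts_one
  | succ n ih => rw [pow_succ]; exact D.acts_mul ih h

theorem acts_word (c : Code) : D.Acts (D.word c) c := by
  have h0 : D.Acts (D.wd 0 c.1) (c.1, 0, 0) :=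
    (fac_code c.1).1 ▸ D.acts_mul (D.acts_pow D.acts_e0 _) (D.acts_pow D.acts_n0 _)
  have h1 : D.Acts (D.wd 1 c.2.1) (0, c.2.1, 0) :=
    (fac_code c.2.1).2.1 ▸ D.acts_mul (D.acts_pow D.acts_e1 _) (D.acts_pow D.acts_n1 _)
  have h2 : D.Acts (D.wd 2 c.2.2) (0, 0, c.2.2) :=
    (fac_code c.2.2).2.2 ▸ D.acts_mul (D.acts_pow D.acts_e2 _) (D.acts_pow D.acts_n2 _)
  have h := D.acts_mul (D.acts_mul h0 h1) h2
  rw [three_code] at h
  exact h

theorem nf_comm {k i : Fin 3} (h : i ≠ k) (n : ℕ) : Commute (D.nf k) (D.e i ^ n) :=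
  Commute.pow_right (mul_inv_eq_iff_eq_mul.1 (D.nf_other h)) n

theorem N_word {n : H} (hn : n ∈ D.N) : ∃ c, D.π n = D.π (D.word c) := by
  obtain ⟨g, hg, p, q, r, h⟩ := D.N_dec hn
  obtain ⟨a, b, c, rfl⟩ := D.mem_E.1 hg
  obtain ⟨s0, a0, b0⟩ := index_code ⟨a % 3, Nat.mod_lt _ (by norm_num)⟩ p
  obtain ⟨s1, a1, b1⟩ := index_code ⟨b % 3, Nat.mod_lt _ (by norm_num)⟩ q
  obtain ⟨s2, a2, b2⟩ := index_code ⟨c % 3, Nat.mod_lt _ (by norm_num)⟩ r
  refine ⟨(s0, s1, s2), ?_⟩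
  have e : D.π n = D.π (D.ev a b c * D.nn p q r) := by
    rcases h with h | h
    · rw [h]
    · rw [h, map_mul, D.π_z, mul_one]
  rw [e]
  refine congrArg D.π ?_
  simp only at a0 a1 a2
  simp only [word, wd, a0, a1, a2, b0, b1, b2, ← D.e_mod]
  have k : ∀ (i j : Fin 3) (x : ℕ) (y : Bool), i ≠ j → D.nf j ^ bx y * D.e i ^ x = D.e i ^ x * D.nf j ^ bx y :=
    fun i j x y h => (Commute.pow_left (D.nf_comm h x) _).eq
  rw [ev, nn]
  calc D.e 0 ^ a * D.e 1 ^ b * D.e 2 ^ c * (D.nf 0 ^ bx p * D.nf 1 ^ bx q * D.nf 2 ^ bx r)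
      = D.e 0 ^ a * D.e 1 ^ b * (D.e 2 ^ c * D.nf 0 ^ bx p) * D.nf 1 ^ bx q * D.nf 2 ^ bx r := by group
    _ = D.e 0 ^ a * (D.e 1 ^ b * D.nf 0 ^ bx p) * (D.e 2 ^ c * D.nf 1 ^ bx q) * D.nf 2 ^ bx r := by
      rw [← k 2 0 c p (by decide)]; group
    _ = _ := by rw [← k 1 0 b p (by decide), ← k 2 1 c q (by decide)]; group

/-- An element induces the map of a code with a permutation of the coordinates. -/
def ActsW (m : H) (w : CodeW) : Prop := ∀ v, D.π m * D.F v * (D.π m)⁻¹ = D.F (appW w v)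

theorem actsW_of {m : H} {c : Code} (h : D.Acts m c) : D.ActsW m (c, 0) := fun v => by rw [appW_zero]; exact h v

theorem actsW_mul {m n : H} {c d : CodeW} (hm : D.ActsW m c) (hn : D.ActsW n d) :
    D.ActsW (m * n) (mulW c d) := fun v => by
  rw [map_mul, Wreath.app_mul, ← hm, ← hn]; group

theorem actsW_congr {m n : H} {w : CodeW} (h : D.π m = D.π n) (hm : D.ActsW n w) : D.ActsW m w := fun v => by
  rw [h]; exact hm v

theorem gen_ne : D.gen ≠ 1 := fun e => by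
  have h := D.gen_full (K := ⊥) (fun g _ x hx => by
    rw [mem_bot.1 hx, mul_one, mul_inv_cancel]; exact one_mem _) (mem_bot.2 e)
  have h2 := D.card_U
  rw [eq_bot_iff.2 h, Subgroup.card_bot] at h2
  omega

theorem gen_unique {x : H ⧸ D.Z} (hx : x ∈ D.U) (h : ∀ t ∈ D.T, D.π t * x * (D.π t)⁻¹ = x) :
    x = 1 ∨ x = D.gen := by
  obtain ⟨u, rfl⟩ := D.F_range hx
  have f : ∀ {n : H} {c : Code}, n ∈ D.T → D.Acts n c → app c u = u := fun hn hc =>
    D.F_inj ((hc u).symm.trans (h _ hn))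
  rcases flips_fixed u (f (D.nf_mem 0) D.acts_n0) (f (D.nf_mem 1) D.acts_n1) (f (D.nf_mem 2) D.acts_n2) with e | e
  · left; rw [e]; exact hom_zero D.F_xor
  · right; rw [e, D.F_uv, gv, bx, pt, D.ev_zero, map_one]; group

/-- A coset representative of the normaliser which permutes the coordinates and fixes the generator. -/
theorem exists_perm_rep {n : H} (hn : n ∈ D.Nf) : ∃ m ∈ D.N, ∃ n₂ ∈ D.Nf, ∃ σ : Equiv.Perm (Fin 3),
    n = m * n₂ ∧ (∀ i, n₂ * D.e i * n₂⁻¹ = D.e (σ i)) ∧ D.π n₂ * D.gen * (D.π n₂)⁻¹ = D.gen := by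
  classical
  haveI : Fact (Nat.Prime 2) := ⟨Nat.prime_two⟩
  have hi : ¬ 2 ∣ D.T.relIndex D.N := by
    have h := Subgroup.card_mul_index (D.T.subgroupOf D.N)
    rw [Nat.card_congr (subgroupOfEquivOfLe D.T_le).toEquiv, D.card_N, mul_comm 27] at h
    have h27 : D.T.relIndex D.N = 27 := mul_left_cancel₀ Nat.card_pos.ne' h
    rw [h27]; norm_num
  have hle : D.T.map (MulAut.conj n).toMonoidHom ≤ D.N := by
    rintro _ ⟨t, ht, rfl⟩
    exact D.N_normal hn (D.T_le ht)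
  obtain ⟨m, hm, hmT⟩ := sylow_conj D.T_le D.T_two hi hle (D.T_two.map _)
  have hn1 : m * n ∈ D.Nf := mul_mem (D.N_le_Nf hm) hn
  have hfix : ∀ t ∈ D.T, ∃ t' ∈ D.T, t * (m * n) = m * n * t' := by
    have heq : D.T.map (MulAut.conj (m * n)).toMonoidHom = D.T := by
      refine Subgroup.eq_of_le_of_card_ge ?_
        (Nat.card_congr (D.T.equivMapOfInjective _ (MulAut.conj (m * n)).injective).toEquiv).le
      rintro _ ⟨t, ht, rfl⟩
      have := hmT (n * t * n⁻¹) ⟨t, ht, rfl⟩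
      show m * n * t * (m * n)⁻¹ ∈ D.T
      rwa [show m * (n * t * n⁻¹) * m⁻¹ = m * n * t * (m * n)⁻¹ by group] at this
    intro t ht
    rw [← heq] at ht
    obtain ⟨t', ht', e⟩ := ht
    exact ⟨t', ht', by rw [show t = m * n * t' * (m * n)⁻¹ from e.symm]; group⟩
  have hgen1 : D.π (m * n) * D.gen * (D.π (m * n))⁻¹ = D.gen := by
    refine (D.gen_unique (D.U_norm hn1 D.gen_mem) fun t ht => ?_).resolve_left fun e => D.gen_ne ?_
    · obtain ⟨t', ht', e⟩ := hfix t ht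
      have e' : D.π t * D.π (m * n) = D.π (m * n) * D.π t' := by rw [← map_mul, e, map_mul]
      calc D.π t * (D.π (m * n) * D.gen * (D.π (m * n))⁻¹) * (D.π t)⁻¹
          = D.π t * D.π (m * n) * D.gen * (D.π t * D.π (m * n))⁻¹ := by group
        _ = D.π (m * n) * (D.π t' * D.gen * (D.π t')⁻¹) * (D.π (m * n))⁻¹ := by rw [e']; group
        _ = _ := by rw [D.gen_fix ht']
    · rw [mul_inv_eq_one] at e
      exact mul_eq_left.1 e
  obtain ⟨σ, hσ⟩ := D.mono (m * n) fun i => D.Nf_conj hn1 (D.e_mem i)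
  have hb : ∀ i, ∃ b : Bool, m * n * D.e i * (m * n)⁻¹ = D.e (σ i) ^ pw b := fun i => by
    rcases hσ i with e | e
    · exact ⟨false, by rw [e, pw, pow_one]⟩
    · exact ⟨true, by rw [e, pw, inv_eq_sq (D.cube _)]⟩
  choose b hb using hb
  set g := D.nn (b 0) (b 1) (b 2) with hg
  have hgT : g ∈ D.T := D.nn_mem _ _ _
  obtain ⟨g0, g1, g2⟩ := D.nn_conj (b 0) (b 1) (b 2)
  have hgc : ∀ i, g * D.e i * g⁻¹ = D.e i ^ pw (b i) := fun i => by
    rcases i with ⟨_ | _ | _ | i, hi⟩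
    exacts [g0, g1, g2, absurd hi (by omega)]
  refine ⟨m⁻¹ * (m * n * g⁻¹ * (m * n)⁻¹), mul_mem (inv_mem hm) (D.N_normal hn1 (inv_mem (D.T_le hgT))),
    m * n * g, mul_mem hn1 (D.N_le_Nf (D.T_le hgT)), σ, by group, fun i => ?_, ?_⟩
  · have hsq : pw (b i) * pw (b i) % 3 = 1 := by cases b i <;> rfl
    calc m * n * g * D.e i * (m * n * g)⁻¹ = m * n * (g * D.e i * g⁻¹) * (m * n)⁻¹ := by group
      _ = (m * n * D.e i * (m * n)⁻¹) ^ pw (b i) := by rw [hgc, conj_pow]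
      _ = D.e (σ i) := by rw [hb, ← pow_mul, D.e_mod, hsq, pow_one]
  · calc D.π (m * n * g) * D.gen * (D.π (m * n * g))⁻¹
        = D.π (m * n) * (D.π g * D.gen * (D.π g)⁻¹) * (D.π (m * n))⁻¹ := by rw [map_mul]; group
      _ = D.gen := by rw [D.gen_fix hgT, hgen1]

theorem perm_ev {n : H} {σ : Equiv.Perm (Fin 3)} (hn : ∀ i, n * D.e i * n⁻¹ = D.e (σ i)) (x : Fin 3 → ℕ) :
    n * D.ev (x 0) (x 1) (x 2) * n⁻¹ = D.ev (x (σ⁻¹ 0)) (x (σ⁻¹ 1)) (x (σ⁻¹ 2)) := by
  have e : n * D.ev (x 0) (x 1) (x 2) * n⁻¹ = D.e (σ 0) ^ x 0 * D.e (σ 1) ^ x 1 * D.e (σ 2) ^ x 2 := by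
    rw [← hn, ← hn, ← hn, conj_pow, conj_pow, conj_pow, ev]; group
  rw [e, D.e_pow_ev, D.e_pow_ev, D.e_pow_ev, D.ev_mul, D.ev_mul, sum_perm σ x 0, sum_perm σ x 1, sum_perm σ x 2]

theorem actsW_perm {n : H} {σ : Equiv.Perm (Fin 3)} (hn : ∀ i, n * D.e i * n⁻¹ = D.e (σ i))
    (hgen : D.π n * D.gen * (D.π n)⁻¹ = D.gen) {p : Fin 6}
    (hp : ∀ a : Fin 3 → Bool, appW (eC, p) (uv (a 0) (a 1) (a 2)) = uv (a (σ⁻¹ 0)) (a (σ⁻¹ 1)) (a (σ⁻¹ 2))) :
    D.ActsW n (eC, p) :=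
  hom_ext (F := fun v => D.π n * D.F v * (D.π n)⁻¹) (G := fun v => D.F (appW (eC, p) v))
    (fun u v => by simp only [D.F_xor]; group) (fun u v => by simp only [appW_xor, D.F_xor])
    (fun a b d => by
      have key : ∀ y : Fin 3 → Bool, D.π n * D.gv (y 0) (y 1) (y 2) * (D.π n)⁻¹ =
          D.F (appW (eC, p) (uv (y 0) (y 1) (y 2))) := fun y => by
        rw [hp, D.F_uv, gv, gv, pt, pt]
        have e := D.perm_ev hn (fun i => bx (y i))
        rw [← e, map_mul, map_mul, map_inv]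
        conv_rhs => rw [← hgen]
        group
      simp only [D.F_uv]
      exact key ![a, b, d])

theorem acts_Nf {n : H} (hn : n ∈ D.Nf) : ∃ w, D.ActsW n w := by
  obtain ⟨m, hm, n₂, -, σ, rfl, hσ, hgen⟩ := D.exists_perm_rep hn
  obtain ⟨c, hc⟩ := D.N_word hm
  obtain ⟨p, hp⟩ := uv_perm σ
  exact ⟨_, D.actsW_mul (D.actsW_congr hc (D.actsW_of (D.acts_word c))) (D.actsW_perm hσ hgen hp)⟩

theorem acts_WW {w : H} (hw : w ∈ D.WW) : D.Acts w eC := fun v => by
  have h := D.U_comm (x := D.π w) ⟨w, hw, rfl⟩ (D.F_mem v)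
  rw [app_eC, h, mul_inv_cancel_right]

theorem fix_U {g : H} (h : ∀ v, D.π g * D.F v * (D.π g)⁻¹ = D.F v) {x : H ⧸ D.Z} (hx : x ∈ D.U) :
    D.π g * x * (D.π g)⁻¹ = x := by
  obtain ⟨v, rfl⟩ := D.F_range hx
  exact h v

theorem ev_trivial {a b c : ℕ}
    (h : ∀ x ∈ D.U, D.π (D.ev a b c) * x * (D.π (D.ev a b c))⁻¹ = x) : D.ev a b c = 1 := by
  have key : ∀ s t, 3 ∣ a + b * pw s + c * pw t := fun s t => by
    by_contra hne
    haveI : Nontrivial (D.WX s t) := Finite.one_lt_card_iff_nontrivial.1 (by rw [D.card_WX]; norm_num)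
    obtain ⟨⟨x, hx⟩, hx1⟩ := exists_ne (1 : D.WX s t)
    exact hx1 (Subtype.ext (D.WX_fix hx hne (mul_inv_eq_iff_eq_mul.1 (h x (D.WX_le_U s t hx)))))
  rw [D.ev_eq_one]
  have h1 := key false false
  have h2 := key false true
  have h3 := key true false
  simp only [pw] at h1 h2 h3
  omega

/-- The normaliser acts faithfully modulo the involution. -/
theorem faithful {n : H} (hn : n ∈ D.Nf) (h : ∀ v, D.π n * D.F v * (D.π n)⁻¹ = D.F v) : n = 1 ∨ n = D.z := by
  have hcomm : ∀ i, n * D.e i = D.e i * n := fun i => by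
    rw [← mul_inv_eq_iff_eq_mul, ← mul_inv_eq_one]
    obtain ⟨a, b, c, e⟩ := D.mem_E.1 (mul_mem (D.Nf_conj hn (D.e_mem i)) (inv_mem (D.e_mem i)))
    rw [e]
    refine D.ev_trivial fun x hx => ?_
    rw [← e]
    have hy : (D.π (D.e i))⁻¹ * x * D.π (D.e i) ∈ D.U := by
      have := D.U_norm (D.E_le_Nf (inv_mem (D.e_mem i))) hx
      rwa [map_inv, inv_inv] at this
    have e1 := D.fix_U h hy
    calc D.π (n * D.e i * n⁻¹ * (D.e i)⁻¹) * x * (D.π (n * D.e i * n⁻¹ * (D.e i)⁻¹))⁻¹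
        = D.π n * D.π (D.e i) * ((D.π n)⁻¹ * ((D.π (D.e i))⁻¹ * x * D.π (D.e i)) * D.π n) * (D.π (D.e i))⁻¹ *
          (D.π n)⁻¹ := by simp only [map_mul, map_inv]; group
      _ = D.π n * D.π (D.e i) * ((D.π n)⁻¹ * (D.π n * ((D.π (D.e i))⁻¹ * x * D.π (D.e i)) * (D.π n)⁻¹) * D.π n) *
          (D.π (D.e i))⁻¹ * (D.π n)⁻¹ := by rw [e1]
      _ = D.π n * x * (D.π n)⁻¹ := by group
      _ = x := D.fix_U h hx
  obtain ⟨g, hg, e⟩ := D.cent_E hcomm
  obtain ⟨a, b, c, rfl⟩ := D.mem_E.1 hg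
  have hπ : D.π n = D.π (D.ev a b c) := by
    rcases e with e | e <;> rw [e]
    rw [map_mul, D.π_z, one_mul]
  have h1 := D.ev_trivial (a := a) (b := b) (c := c) fun x hx => hπ ▸ D.fix_U h hx
  rcases e with e | e <;> rw [e, h1]
  · exact Or.inl rfl
  · exact Or.inr (mul_one _)

theorem Mt_dec {g : H} (hg : g ∈ D.Mt) : ∃ w, D.ActsW g w := by
  obtain ⟨w, hw, n, hn, rfl⟩ := hg
  obtain ⟨c, hc⟩ := D.acts_Nf hn
  exact ⟨_, D.actsW_mul (D.actsW_of (D.acts_WW hw)) hc⟩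

theorem π_mem_iff {g : H} : D.π g ∈ D.Mt.map D.π ↔ g ∈ D.Mt := by
  refine ⟨fun h => ?_, fun h => ⟨g, h, rfl⟩⟩
  obtain ⟨m, hm, e⟩ := h
  rcases D.π_eq.1 e with rfl | rfl
  · exact hm
  · have := mul_mem hm (inv_mem (D.WW_le_Mt D.z_mem_WW))
    rwa [mul_inv_cancel_right] at this

/-- A member inducing a map without permutation lies in the part without permutation. -/
theorem mem_M0_of_code {g : H} (hg : g ∈ D.Mt) {c : Code} (h : D.ActsW g (c, 0)) : g ∈ D.M0 := by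
  obtain ⟨w, hw, n, hn, rfl⟩ := hg
  have hn' : (D.word c)⁻¹ * n ∈ D.Nf := mul_mem (inv_mem (D.N_le_Nf (D.word_mem c))) hn
  have key : ∀ v, D.π ((D.word c)⁻¹ * n) * D.F v * (D.π ((D.word c)⁻¹ * n))⁻¹ = D.F v := fun v => by
    have hwv : (D.π w)⁻¹ * D.F (app c v) * D.π w = D.F (app c v) := by
      have := D.acts_WW (inv_mem hw) (app c v)
      rwa [app_eC, map_inv, inv_inv] at this
    have h1 : D.π n * D.F v * (D.π n)⁻¹ = D.F (app c v) := by
      have h2 := h v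
      rw [appW_zero, map_mul] at h2
      rw [← hwv, ← h2]; group
    have h3 := D.acts_word c v
    calc D.π ((D.word c)⁻¹ * n) * D.F v * (D.π ((D.word c)⁻¹ * n))⁻¹
        = (D.π (D.word c))⁻¹ * (D.π n * D.F v * (D.π n)⁻¹) * D.π (D.word c) := by
          rw [map_mul, map_inv]; group
      _ = (D.π (D.word c))⁻¹ * (D.π (D.word c) * D.F v * (D.π (D.word c))⁻¹) * D.π (D.word c) := by rw [h1, h3]
      _ = D.F v := by group
  refine mul_mem (D.WW_le_M0 hw) ?_
  rw [← mul_inv_cancel_left (D.word c) n]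
  refine mul_mem (D.N_le_M0 (D.word_mem c)) ?_
  rcases D.faithful hn' key with e | e <;> rw [e]
  exacts [one_mem _, D.N_le_M0 D.z_mem_N]

/-- The hypotheses of the closing step. -/
noncomputable def toHyp : Wreath.Hyp (H ⧸ D.Z) where
  M := D.Mt.map D.π
  f := D.F
  f_xor := D.F_xor
  f_inj := D.F_inj
  f_mem v := map_mono D.WW_le_Mt (D.F_mem v)
  act := by
    rintro _ ⟨g, hg, rfl⟩
    exact D.Mt_dec hg
  real c := ⟨D.π (D.word c), ⟨_, D.Nf_le_Mt (D.N_le_Nf (D.word_mem c)), rfl⟩, D.actsW_of (D.acts_word c)⟩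
  cycle := by
    obtain ⟨n, hn⟩ := D.cycle
    obtain ⟨m, hm, n₂, hn₂, σ, e, hσ, hgen⟩ :=
      D.exists_perm_rep (D.mem_Nf fun i => by rw [hn i]; exact D.e_mem _)
    have hs : ∀ i, σ i = i + 1 := fun i => by
      have h1 : n * D.e i * n⁻¹ = D.e (σ i) ∨ n * D.e i * n⁻¹ = (D.e (σ i))⁻¹ := by
        rw [e, show m * n₂ * D.e i * (m * n₂)⁻¹ = m * (n₂ * D.e i * n₂⁻¹) * m⁻¹ by group, hσ]
        exact D.signs hm (σ i)
      rw [hn] at h1
      by_contra hne
      have inj : ∀ (j k : Fin 3) (l : ℕ), ¬ 3 ∣ l → D.e j = D.e k ^ l → j = k := fun j k l hl h => by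
        have h2 : D.e j ^ 1 * (D.e k ^ l)⁻¹ = 1 := by rw [pow_one, ← h, mul_inv_cancel]
        rw [D.e_pow_ev j 1, D.e_pow_ev k l, D.ev_inv, D.ev_mul, D.ev_eq_one] at h2
        fin_cases j <;> fin_cases k <;> simp_all
      rcases h1 with h1 | h1
      · exact hne (inj _ _ 1 (by norm_num) (by rw [pow_one]; exact h1)).symm
      · exact hne (inj _ _ 2 (by norm_num) (by rw [h1, inv_eq_sq (D.cube _)])).symm
    refine ⟨D.π n₂, ⟨n₂, D.Nf_le_Mt hn₂, rfl⟩, D.actsW_perm hσ hgen (p := 4) fun a => ?_⟩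
    rw [uv_cycle]
    have hinv : ∀ i, σ⁻¹ i = i - 1 := fun i => σ.injective (by
      rw [show σ (σ⁻¹ i) = i from σ.apply_symm_apply i, hs, sub_add_cancel])
    rw [hinv, hinv, hinv]
    rfl
  cen := by
    rintro _ ⟨g, hg, rfl⟩ hcomm
    obtain ⟨w, hw, n, hn, rfl⟩ := hg
    have hn' : ∀ v, D.π n * D.F v * (D.π n)⁻¹ = D.F v := fun v => by
      have h1 := hcomm v
      rw [map_mul] at h1
      have h2 := D.U_comm (x := D.π w) ⟨w, hw, rfl⟩ (D.F_mem v)
      rw [mul_inv_eq_iff_eq_mul]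
      refine mul_left_cancel (a := D.π w) ?_
      calc D.π w * (D.π n * D.F v) = D.F v * (D.π w * D.π n) := by rw [← mul_assoc, h1]
        _ = D.π w * (D.F v * D.π n) := by rw [← mul_assoc, ← h2, mul_assoc]
    have hπn : D.π n = 1 := D.π_eq_one.2 (D.faithful hn hn')
    exact D.F_range ⟨w, hw, by rw [map_mul, hπn, mul_one]⟩
  strong := by
    intro x hx c hc hx3 hx1 g hg
    obtain ⟨a, ha, rfl⟩ := hx
    obtain ⟨h, rfl⟩ := D.π_surj g
    have hz : a ^ 3 = 1 ∨ a ^ 3 = D.z := D.π_eq_one.1 (by rw [map_pow, hx3])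
    have e4 : D.π (a ^ 4) = D.π a := by rw [map_pow, pow_succ, hx3, one_mul]
    have h43 : (a ^ 4) ^ 3 = 1 := by
      rw [← pow_mul, show 4 * 3 = 3 * 4 from rfl, pow_mul]
      rcases hz with e | e <;> rw [e]
      · exact one_pow 4
      · rw [show 4 = 2 * 2 from rfl, pow_mul, pow_two D.z, D.zz, one_pow]
    have hne : a ^ 4 ≠ 1 := fun e => hx1 (by rw [← e4, e, map_one])
    have ha0 : a ∈ D.M0 := D.mem_M0_of_code ha hc
    have hb : h * a ^ 4 * h⁻¹ ∈ D.Mt := D.π_mem_iff.1 (by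
      rw [map_mul, map_mul, map_inv, e4]; exact hg)
    exact D.π_mem_iff.2 (D.strong_lift (pow_mem ha0 4) h43 hne hb)

theorem toHyp_top (h : D.toHyp.M = ⊤) : D.Mt = ⊤ :=
  eq_top_iff.2 fun g _ => D.π_mem_iff.1 (show D.π g ∈ D.toHyp.M from h.symm ▸ mem_top _)

theorem WW_normal (h : D.Mt = ⊤) : D.WW.Normal := ⟨fun x hx g => by
  obtain ⟨w, hw, n, hn, rfl⟩ : g ∈ D.Mt := h.symm ▸ mem_top g
  rw [show w * n * x * (w * n)⁻¹ = w * (n * x * n⁻¹) * w⁻¹ by group]
  exact mul_mem (mul_mem hw (D.WW_norm hn hx)) (inv_mem hw)⟩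

theorem WX_central {s t : Bool} {x : H} (hx : x ∈ D.W s t) (hc : ∀ y ∈ D.W s t, x * y = y * x) : D.π x = 1 := by
  by_contra hne
  let K : Subgroup (H ⧸ D.Z) := (D.W s t ⊓ centralizer (D.W s t : Set H)).map D.π
  have hxK : D.π x ∈ K := ⟨x, ⟨hx, mem_centralizer_iff.2 fun y hy => (hc y hy).symm⟩, rfl⟩
  have hKn : D.π (D.ev 1 0 0) * D.π x * (D.π (D.ev 1 0 0))⁻¹ ∈ K := by
    refine ⟨D.ev 1 0 0 * x * (D.ev 1 0 0)⁻¹, ⟨D.W_norm_ev hx (D.ev_mem _ _ _), mem_centralizer_iff.2 fun y hy => ?_⟩,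
      by rw [map_mul, map_mul, map_inv]⟩
    have h := hc _ (D.W_norm_ev hy (inv_mem (D.ev_mem 1 0 0)))
    revert h
    generalize D.ev 1 0 0 = g
    intro h
    calc y * (g * x * g⁻¹) = g * (g⁻¹ * y * g⁻¹⁻¹ * x) * g⁻¹ := by group
      _ = _ := by rw [← h]; group
  have hall := D.WX_gen (s := s) (t := t) ⟨x, hx, rfl⟩ hne hxK hKn
  obtain ⟨a, ha, b, hb, hab⟩ := D.W_nonab s t
  obtain ⟨a', ⟨-, ha'⟩, e⟩ := hall ⟨a, ha, rfl⟩
  refine hab ?_
  have h1 : b * a' = a' * b := mem_centralizer_iff.1 ha' b hb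
  rcases D.π_eq.1 e with rfl | rfl
  · exact h1.symm
  · rw [mul_assoc a, D.zc b, ← mul_assoc, ← mul_assoc] at h1
    exact (mul_right_cancel h1).symm

theorem center_WW {x : H} (hx : x ∈ D.WW) (hc : ∀ y ∈ D.WW, x * y = y * x) : x = 1 ∨ x = D.z := by
  obtain ⟨c, hcf, e⟩ := D.U_dec (x := D.π x) ⟨x, hx, rfl⟩
  choose w hw hwe using hcf
  set ww := w false false * w false true * w true false * w true true with hww
  have hxw : x = ww ∨ x = ww * D.z := D.π_eq.1 (by rw [← e, hww, map_mul, map_mul, map_mul, hwe, hwe, hwe, hwe, prd])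
  have hcw : ∀ y ∈ D.WW, ww * y = y * ww := fun y hy => by
    rcases hxw with h | h
    · rw [← h]; exact hc y hy
    · have := hc y hy
      rw [h, mul_assoc, D.zc y, ← mul_assoc, ← mul_assoc] at this
      exact mul_right_cancel this
  have key : ∀ s t, D.π (w s t) = 1 := by
    intro s t
    refine D.WX_central (hw s t) fun y hy => ?_
    have hother : ∀ u v, (u, v) ≠ (s, t) → Commute (w u v) y := fun u v h => D.W_comm h (hw u v) hy
    have hall : Commute ww y := hcw y (D.W_le_WW s t hy)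
    rw [hww] at hall
    cases s <;> cases t
    · have : w false false = ww * (w true true)⁻¹ * (w true false)⁻¹ * (w false true)⁻¹ := by rw [hww]; group
      rw [this]
      exact (((hall.mul_left (hother true true (by simp)).inv_left).mul_left
        (hother true false (by simp)).inv_left).mul_left (hother false true (by simp)).inv_left).eq
    · have : w false true = (w false false)⁻¹ * ww * (w true true)⁻¹ * (w true false)⁻¹ := by rw [hww]; group
      rw [this]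
      exact ((((hother false false (by simp)).inv_left.mul_left hall).mul_left
        (hother true true (by simp)).inv_left).mul_left (hother true false (by simp)).inv_left).eq
    · have : w true false = (w false true)⁻¹ * (w false false)⁻¹ * ww * (w true true)⁻¹ := by rw [hww]; group
      rw [this]
      exact ((((hother false true (by simp)).inv_left.mul_left (hother false false (by simp)).inv_left).mul_left
        hall).mul_left (hother true true (by simp)).inv_left).eq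
    · have : w true true = (w true false)⁻¹ * (w false true)⁻¹ * (w false false)⁻¹ * ww := by rw [hww]; group
      rw [this]
      exact ((((hother true false (by simp)).inv_left.mul_left (hother false true (by simp)).inv_left).mul_left
        (hother false false (by simp)).inv_left).mul_left hall).eq
  refine D.π_eq_one.1 ?_
  rw [← e, prd, ← hwe, ← hwe, ← hwe, ← hwe, key, key, key, key]
  simp

theorem cent_WW_le {g : H} (hg : g ∈ D.Mt) (hc : ∀ y ∈ D.WW, g * y = y * g) : g = 1 ∨ g = D.z := by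
  obtain ⟨v, e⟩ := D.toHyp.cen (D.π g) ⟨g, hg, rfl⟩ fun v => by
    obtain ⟨y, hy, e⟩ := D.F_mem v
    show D.π g * D.F v = D.F v * D.π g
    rw [← e, ← map_mul, ← map_mul, hc y hy]
  exact D.center_WW (D.mem_WW_of_π (e ▸ D.F_mem v)) hc

end Data

end Cfsg.Agent.O8Three.Cube
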