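import Cfsg.Agent.Lib.O8Three.Cube.Basic
import Mathlib.GroupTheory.PGroup
import Mathlib.GroupTheory.Coset.Card
import Mathlib.Algebra.Group.Subgroup.Finite

/-!
S3372: two groups of order eight centralised by an element of weight two commute and fill its core.
-/

set_option autoImplicit false
set_option linter.style.haveILetI false
set_option linter.unusedSectionVars false

namespace Cfsg.Agent.O8Three.Cube

open Subgroup

theorem pw_dot_self : ∀ s t : Bool, 3 ∣ 1 + pw s * pw s + pw t * pw t := by decide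

theorem pw_dot_ne : ∀ s t s' t' : Bool, (s, t) ≠ (s', t') → ¬ 3 ∣ 1 + pw s * pw s' + pw t * pw t' := by
  decide

theorem bool_cases : ∀ s t s' t' : Bool, (s, t) ≠ (s', t') →
    (s' = s ∧ t' = !t) ∨ (s' = !s ∧ t' = t) ∨ (s' = !s ∧ t' = !t) := by decide

namespace Data

variable {H : Type*} [Group H] (D : Data H) [Finite H]

theorem WX_gen {s t : Bool} {d : H ⧸ D.Z} (hd : d ∈ D.WX s t) (hd1 : d ≠ 1) {K : Subgroup (H ⧸ D.Z)}
    (hdK : d ∈ K) (hK : D.π (D.ev 1 0 0) * d * (D.π (D.ev 1 0 0))⁻¹ ∈ K) : D.WX s t ≤ K := by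
  classical
  set d' := D.π (D.ev 1 0 0) * d * (D.π (D.ev 1 0 0))⁻¹ with hd'
  have hd'W : d' ∈ D.WX s t := D.WX_norm hd (D.ev_mem _ _ _)
  have h1 : d' ≠ 1 := fun e => hd1 (by
    rw [hd', mul_inv_eq_one] at e
    exact mul_eq_left.1 e)
  have h2 : d' ≠ d := fun e =>
    hd1 (D.WX_fix hd (a := 1) (b := 0) (c := 0) (by norm_num) (mul_inv_eq_iff_eq_mul.1 e))
  have hsub : Nat.card ({1, d, d'} : Finset (H ⧸ D.Z)) ≤ Nat.card ↥(D.WX s t ⊓ K) :=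
    Nat.card_le_card_of_injective (fun x => ⟨x.1, by
      have := x.2
      simp only [Finset.mem_insert, Finset.mem_singleton] at this
      rcases this with e | e | e <;> rw [e]
      exacts [one_mem _, ⟨hd, hdK⟩, ⟨hd'W, hK⟩]⟩) fun a b e => Subtype.ext (congrArg Subtype.val e :)
  rw [Nat.card_eq_finsetCard, Finset.card_eq_three.2 ⟨1, d, d', hd1.symm, h1.symm, h2.symm, rfl⟩] at hsub
  have hdvd := Subgroup.card_dvd_of_le (inf_le_left : D.WX s t ⊓ K ≤ D.WX s t)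
  rw [D.card_WX] at hdvd
  have hle := Nat.le_of_dvd (by norm_num) hdvd
  have h4 : Nat.card ↥(D.WX s t ⊓ K) = 4 := by
    rcases (show Nat.card ↥(D.WX s t ⊓ K) = 3 ∨ Nat.card ↥(D.WX s t ⊓ K) = 4 by omega) with e | e
    · rw [e] at hdvd; norm_num at hdvd
    · exact e
  have := Subgroup.eq_of_le_of_card_ge (inf_le_left : D.WX s t ⊓ K ≤ D.WX s t) (by rw [h4, D.card_WX])
  exact this.symm.le.trans inf_le_right

theorem y_conj {s t : Bool} {x : H ⧸ D.Z} (hx : x ∈ D.WX s t) :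
    D.π (D.y s t) * x * (D.π (D.y s t))⁻¹ = x := by
  obtain ⟨w, hw, rfl⟩ := hx
  rw [mul_inv_eq_iff_eq_mul, ← map_mul, ← map_mul, D.y_ev, D.ev_comm hw (pw_dot_self s t)]

theorem WX_sep {s t s' t' : Bool} (hne : (s, t) ≠ (s', t')) {x : H ⧸ D.Z} (hx : x ∈ D.WX s t)
    (hx' : x ∈ D.WX s' t') : x = 1 := by
  refine D.WX_fix hx' (pw_dot_ne s t s' t' hne) ?_
  rw [← D.y_ev, ← mul_inv_eq_iff_eq_mul]
  exact D.y_conj hx

/-- A group of order eight at weight three lies in the core at a weight two element centralising it. -/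
theorem W_le_core {a b c : ℕ} {R : Subgroup H}
    (hR : Nat.card R = 32) (hz : D.z ∈ R)
    (hRn : ∀ g ∈ centralizer ({D.ev a b c} : Set H), ∀ r ∈ R, g * r * g⁻¹ ∈ R)
    (hdec : ∀ g ∈ centralizer ({D.ev a b c} : Set H), ∃ r ∈ R, ∀ k, r⁻¹ * g * D.e k * (r⁻¹ * g)⁻¹ ∈ D.E)
    {s t : Bool} (hst : 3 ∣ a + b * pw s + c * pw t) : D.W s t ≤ R :=
  haveI : Fact (Nat.Prime 2) := ⟨Nat.prime_two⟩
  D.core_two (IsPGroup.of_card (n := 5) hR) hz hRn (fun _ hx => D.E_le_cent hx) hdec (D.W_two s t)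
    (fun _ hx => mem_centralizer_singleton_iff.2 (D.ev_comm hx hst).symm)
    (fun _ hg _ hx => D.W_norm_ev hx hg)

/-- The two groups of order eight at the lines of weight three orthogonal to an element of weight two. -/
theorem pair_core {a b c : ℕ} {R : Subgroup H}
    (hR : Nat.card R = 32) (hz : D.z ∈ R) (hRle : R ≤ centralizer ({D.ev a b c} : Set H))
    (hRn : ∀ g ∈ centralizer ({D.ev a b c} : Set H), ∀ r ∈ R, g * r * g⁻¹ ∈ R)
    (hdec : ∀ g ∈ centralizer ({D.ev a b c} : Set H), ∃ r ∈ R, ∀ k, r⁻¹ * g * D.e k * (r⁻¹ * g)⁻¹ ∈ D.E)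
    {s t s' t' : Bool}
    (hne : (s, t) ≠ (s', t')) (hp : 3 ∣ a + b * pw s + c * pw t) (hq : 3 ∣ a + b * pw s' + c * pw t') :
    (∀ x ∈ D.WX s t, ∀ x' ∈ D.WX s' t', x * x' = x' * x) ∧
      ∀ r ∈ R, ∃ x ∈ D.WX s t, ∃ x' ∈ D.WX s' t', D.π r = x * x' := by
  classical
  haveI : Fact (Nat.Prime 2) := ⟨Nat.prime_two⟩
  set P := R.map D.π with hP
  have hPle : D.WX s t ≤ P := map_mono (D.W_le_core hR hz hRn hdec hp)
  have hQle : D.WX s' t' ≤ P := map_mono (D.W_le_core hR hz hRn hdec hq)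
  have hPcard : Nat.card P = 16 := by
    have h := D.card_map_π hz
    rw [hR] at h
    show Nat.card (R.map D.π) = 16
    omega
  let f : D.WX s t × D.WX s' t' → P := fun p => ⟨p.1.1 * p.2.1, mul_mem (hPle p.1.2) (hQle p.2.2)⟩
  have hf : Function.Injective f := by
    rintro ⟨⟨x, hx⟩, ⟨x', hx'⟩⟩ ⟨⟨u, hu⟩, ⟨u', hu'⟩⟩ h
    have h1 : x * x' = u * u' := congrArg Subtype.val h
    have h2 : u⁻¹ * x = u' * x'⁻¹ := by
      calc u⁻¹ * x = u⁻¹ * (x * x') * x'⁻¹ := by group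
        _ = _ := by rw [h1]; group
    have h3 := D.WX_sep hne (mul_mem (inv_mem hu) hx) (h2 ▸ mul_mem hu' (inv_mem hx'))
    have e1 : u = x := inv_mul_eq_one.1 h3
    subst e1
    simp only [Prod.mk.injEq, Subtype.mk.injEq]
    exact ⟨trivial, mul_left_cancel h1⟩
  have hb := hf.bijective_of_nat_card_le (by rw [Nat.card_prod, D.card_WX, D.card_WX, hPcard])
  have hdec : ∀ p ∈ P, ∃ x ∈ D.WX s t, ∃ x' ∈ D.WX s' t', p = x * x' := fun p hp' => by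
    obtain ⟨⟨x, x'⟩, e⟩ := hb.2 ⟨p, hp'⟩
    exact ⟨x.1, x.2, x'.1, x'.2, (congrArg Subtype.val e).symm⟩
  refine ⟨?_, fun r hr => hdec _ ⟨r, hr, rfl⟩⟩
  have hPn : ∀ g ∈ D.E, ∀ p ∈ P, D.π g * p * (D.π g)⁻¹ ∈ P := by
    rintro g hg _ ⟨r, hr, rfl⟩
    exact ⟨_, hRn g (D.E_le_cent hg) r hr, by rw [map_mul, map_mul, map_inv]⟩
  let CP : Subgroup (H ⧸ D.Z) := P ⊓ centralizer (P : Set (H ⧸ D.Z))
  have hCPn : ∀ g ∈ D.E, ∀ p ∈ CP, D.π g * p * (D.π g)⁻¹ ∈ CP := by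
    rintro g hg p ⟨hp1, hp2⟩
    refine ⟨hPn g hg p hp1, mem_centralizer_iff.2 fun q hq => ?_⟩
    have h' := hPn g⁻¹ (inv_mem hg) q hq
    rw [map_inv, inv_inv] at h'
    have h'' := mem_centralizer_iff.1 hp2 _ h'
    calc q * (D.π g * p * (D.π g)⁻¹) = D.π g * ((D.π g)⁻¹ * q * D.π g * p) * (D.π g)⁻¹ := by group
      _ = D.π g * (p * ((D.π g)⁻¹ * q * D.π g)) * (D.π g)⁻¹ := by rw [h'']
      _ = _ := by group
  obtain ⟨p, hp, hp1⟩ : ∃ p ∈ CP, p ≠ 1 := by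
    haveI : Nontrivial P := Finite.one_lt_card_iff_nontrivial.1 (by omega)
    haveI := (IsPGroup.of_card (p := 2) (n := 4) hPcard).center_nontrivial
    obtain ⟨⟨⟨p, hp⟩, hpc⟩, hp1⟩ := exists_ne (1 : Subgroup.center P)
    refine ⟨p, ⟨hp, mem_centralizer_iff.2 fun q hq => congrArg Subtype.val (mem_center_iff.1 hpc ⟨q, hq⟩)⟩,
      fun e => hp1 (Subtype.ext (Subtype.ext e))⟩
  obtain ⟨x, hx, x', hx', rfl⟩ := hdec p hp.1
  have key : ∀ {u v : Bool} {d : H ⧸ D.Z}, d ∈ D.WX u v → d ≠ 1 → d ∈ CP → D.WX u v ≤ CP :=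
    fun hd hd1 hdC => D.WX_gen hd hd1 hdC (hCPn _ (D.ev_mem _ _ _) _ hdC)
  intro w hw w' hw'
  by_cases hx1 : x' = 1
  · subst hx1
    rw [mul_one] at hp hp1
    exact ((mem_centralizer_iff.1 (key hx hp1 hp hw).2) w' (hQle hw')).symm
  · set k := D.π (D.y s t) with hk
    have hkE : D.y s t ∈ D.E := by rw [D.y_ev]; exact D.ev_mem _ _ _
    have hd : x'⁻¹ * (k * x' * k⁻¹) ∈ CP := by
      have h := mul_mem (inv_mem hp) (hCPn _ hkE _ hp)
      rwa [show (x * x')⁻¹ * (k * (x * x') * k⁻¹) = x'⁻¹ * x⁻¹ * (k * x * k⁻¹) * (k * x' * k⁻¹) by group,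
        hk, D.y_conj hx, inv_mul_cancel_right] at h
    have hd' : x'⁻¹ * (k * x' * k⁻¹) ∈ D.WX s' t' := mul_mem (inv_mem hx') (D.WX_norm hx' hkE)
    have hd1 : x'⁻¹ * (k * x' * k⁻¹) ≠ 1 := fun e => hx1 (by
      refine D.WX_fix hx' (pw_dot_ne s t s' t' hne) ?_
      rw [← D.y_ev, ← mul_inv_eq_iff_eq_mul]
      exact (inv_mul_eq_one.1 e).symm)
    exact mem_centralizer_iff.1 (key hd' hd1 hd hw').2 w (hPle hw)

/-- The two groups of order eight commute. -/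
theorem W_commute {s t s' t' : Bool} (hne : (s, t) ≠ (s', t'))
    (hX : ∀ x ∈ D.WX s t, ∀ x' ∈ D.WX s' t', x * x' = x' * x) {x x' : H} (hx : x ∈ D.W s t)
    (hx' : x' ∈ D.W s' t') : x * x' = x' * x := by
  classical
  set k := D.y s t with hk
  have hkE : k ∈ D.E := by rw [hk, D.y_ev]; exact D.ev_mem _ _ _
  let m : D.WX s' t' → D.WX s' t' := fun u =>
    ⟨(u.1)⁻¹ * (D.π k * u.1 * (D.π k)⁻¹), mul_mem (inv_mem u.2) (D.WX_norm u.2 hkE)⟩
  have hm : Function.Injective m := fun u v e => by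
    have h : (u.1)⁻¹ * (D.π k * u.1 * (D.π k)⁻¹) = (v.1)⁻¹ * (D.π k * v.1 * (D.π k)⁻¹) := congrArg Subtype.val e
    have huv : v.1 * (u.1)⁻¹ = 1 := by
      refine D.WX_fix (mul_mem v.2 (inv_mem u.2)) (pw_dot_ne s t s' t' hne) ?_
      rw [← D.y_ev, ← hk, ← mul_inv_eq_iff_eq_mul]
      calc D.π k * (v.1 * (u.1)⁻¹) * (D.π k)⁻¹
          = v.1 * ((v.1)⁻¹ * (D.π k * v.1 * (D.π k)⁻¹)) * (D.π k * u.1 * (D.π k)⁻¹)⁻¹ := by group
        _ = _ := by rw [← h]; group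
    exact Subtype.ext (mul_inv_eq_one.1 huv).symm
  obtain ⟨⟨_, ⟨u, hu, rfl⟩⟩, e⟩ := (Finite.injective_iff_surjective.1 hm) ⟨D.π x', x', hx', rfl⟩
  have e1 : D.π x' = D.π (u⁻¹ * (k * u * k⁻¹)) := by
    rw [map_mul, map_mul, map_mul, map_inv, map_inv]
    exact (congrArg Subtype.val e).symm
  have h1 : x * u = u * x ∨ x * u = u * x * D.z := by
    have h := hX (D.π x) ⟨x, hx, rfl⟩ (D.π u) ⟨u, hu, rfl⟩
    rw [← map_mul, ← map_mul, D.π_eq] at h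
    exact h
  obtain ⟨ε, hεc, hxu⟩ : ∃ ε, (∀ h : H, h * ε = ε * h) ∧ x * u * x⁻¹ = u * ε := by
    rcases h1 with e | e
    · exact ⟨1, fun h => by simp, by rw [e]; group⟩
    · exact ⟨D.z, D.central, by rw [e, mul_assoc (u * x), D.zc]; group⟩
  have hkx : k * x * k⁻¹ = x := by
    rw [mul_inv_eq_iff_eq_mul, hk, D.y_ev]
    exact D.ev_comm hx (pw_dot_self s t)
  have hxv : x * (k * u * k⁻¹) * x⁻¹ = k * u * k⁻¹ * ε := by
    calc x * (k * u * k⁻¹) * x⁻¹ = k * x * k⁻¹ * (k * u * k⁻¹) * (k * x * k⁻¹)⁻¹ := by rw [hkx]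
      _ = k * (x * u * x⁻¹) * k⁻¹ := by group
      _ = k * u * (ε * k⁻¹) := by rw [hxu]; group
      _ = _ := by rw [← hεc]; group
  have hw : x * (u⁻¹ * (k * u * k⁻¹)) * x⁻¹ = u⁻¹ * (k * u * k⁻¹) := by
    calc x * (u⁻¹ * (k * u * k⁻¹)) * x⁻¹ = (x * u * x⁻¹)⁻¹ * (x * (k * u * k⁻¹) * x⁻¹) := by group
      _ = ε⁻¹ * (u⁻¹ * (k * u * k⁻¹) * ε) := by rw [hxu, hxv]; group
      _ = _ := by rw [hεc, inv_mul_cancel_left]
  have hw' := mul_inv_eq_iff_eq_mul.1 hw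
  rcases D.π_eq.1 e1 with e | e <;> rw [e]
  · exact hw'
  · rw [← mul_assoc, hw', mul_assoc, D.central x, ← mul_assoc]

/-- The data of a weight two element in coordinates. -/
theorem two_ev (i j : Fin 3) (hij : i ≠ j) (r : Bool) {a b c : ℕ} (h : D.e i * D.e j ^ pw r = D.ev a b c) :
    ∃ R : Subgroup H, Nat.card R = 32 ∧ D.z ∈ R ∧ R ≤ centralizer ({D.ev a b c} : Set H) ∧
      (∀ g ∈ centralizer ({D.ev a b c} : Set H), ∀ x ∈ R, g * x * g⁻¹ ∈ R) ∧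
      ∀ g ∈ centralizer ({D.ev a b c} : Set H), ∃ r ∈ R, ∀ k, r⁻¹ * g * D.e k * (r⁻¹ * g)⁻¹ ∈ D.E :=
  h ▸ D.two_core i j hij r

theorem ev01 (r : Bool) : D.e 0 * D.e 1 ^ pw r = D.ev 1 (pw r) 0 := by simp [ev]

theorem ev02 (r : Bool) : D.e 0 * D.e 2 ^ pw r = D.ev 1 0 (pw r) := by simp [ev]

theorem ev12 (r : Bool) : D.e 1 * D.e 2 ^ pw r = D.ev 0 1 (pw r) := by simp [ev]

/-- Every two of the groups of order eight commute. -/
theorem W_comm {s t s' t' : Bool} (hne : (s, t) ≠ (s', t')) {x x' : H} (hx : x ∈ D.W s t)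
    (hx' : x' ∈ D.W s' t') : x * x' = x' * x := by
  refine D.W_commute hne ?_ hx hx'
  rcases bool_cases s t s' t' hne with ⟨rfl, rfl⟩ | ⟨rfl, rfl⟩ | ⟨rfl, rfl⟩
  · obtain ⟨R, h1, h2, h3, h4, h5⟩ := D.two_ev 0 1 (by decide) _ (D.ev01 (!s'))
    exact (D.pair_core h1 h2 h3 h4 h5 hne (by cases s' <;> simp [pw]) (by cases s' <;> simp [pw])).1
  · obtain ⟨R, h1, h2, h3, h4, h5⟩ := D.two_ev 0 2 (by decide) _ (D.ev02 (!t'))
    exact (D.pair_core h1 h2 h3 h4 h5 hne (by cases t' <;> simp [pw]) (by cases t' <;> simp [pw])).1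
  · obtain ⟨R, h1, h2, h3, h4, h5⟩ := D.two_ev 1 2 (by decide) _ (D.ev12 (s == t))
    exact (D.pair_core h1 h2 h3 h4 h5 hne (by cases s <;> cases t <;> simp [pw])
      (by cases s <;> cases t <;> simp [pw])).1

end Data

end Cfsg.Agent.O8Three.Cube
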