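import Cfsg.Agent.Lib.O8Three.Cube.Core
import Mathlib.GroupTheory.Sylow

/-!
S3372: the product extended by the normaliser of `E` contains the centralisers of the elements of order three of
`E` and controls their fusion.
-/

set_option autoImplicit false
set_option linter.style.haveILetI false
set_option linter.unusedSectionVars false

namespace Cfsg.Agent.O8Three.Cube

open Subgroup
open scoped Pointwise

theorem sylow_conj {H : Type*} [Group H] [Finite H] {p : ℕ} [Fact p.Prime] {G₀ P Q : Subgroup H} (hPG : P ≤ G₀)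
    (hP : IsPGroup p P) (hi : ¬ p ∣ P.relIndex G₀) (hQG : Q ≤ G₀) (hQ : IsPGroup p Q) :
    ∃ m ∈ G₀, ∀ x ∈ Q, m * x * m⁻¹ ∈ P := by
  have hP' : IsPGroup p (P.subgroupOf G₀) := hP.of_equiv (subgroupOfEquivOfLe hPG).symm
  set S := hP'.toSylow hi with hS
  have hQ' : IsPGroup p (Q.subgroupOf G₀) := hQ.of_equiv (subgroupOfEquivOfLe hQG).symm
  obtain ⟨R, hR⟩ := hQ'.exists_le_sylow
  obtain ⟨g, hg⟩ := MulAction.exists_smul_eq G₀ S R
  refine ⟨(g : H)⁻¹, inv_mem g.2, fun x hx => ?_⟩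
  have hmem : (⟨x, hQG hx⟩ : G₀) ∈ ((g • S : Sylow p G₀) : Subgroup G₀) := hg ▸ hR hx
  rw [Sylow.coe_subgroup_smul, Subgroup.mem_pointwise_smul_iff_inv_smul_mem] at hmem
  have h2 : ((MulAut.conj g)⁻¹ • (⟨x, hQG hx⟩ : G₀) : G₀) ∈ P.subgroupOf G₀ := hmem
  have h4 := Subgroup.mem_subgroupOf.1 h2
  rw [inv_inv]
  exact h4

instance fact_three : Fact (Nat.Prime 3) := ⟨Nat.prime_three⟩

namespace Data

variable {H : Type*} [Group H] (D : Data H) [Finite H]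

/-- The product extended by the normaliser of `E`. -/
noncomputable def Mt : Subgroup H where
  carrier := {g | ∃ w ∈ D.WW, ∃ n ∈ D.Nf, g = w * n}
  one_mem' := ⟨1, one_mem _, 1, one_mem _, by simp⟩
  mul_mem' := by
    rintro _ _ ⟨w, hw, n, hn, rfl⟩ ⟨w', hw', n', hn', rfl⟩
    exact ⟨w * (n * w' * n⁻¹), mul_mem hw (D.WW_norm hn hw'), n * n', mul_mem hn hn', by group⟩
  inv_mem' := by
    rintro _ ⟨w, hw, n, hn, rfl⟩
    exact ⟨n⁻¹ * w⁻¹ * n⁻¹⁻¹, D.WW_norm (inv_mem hn) (inv_mem hw), n⁻¹, inv_mem hn, by group⟩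

/-- The part without permutation of the coordinates. -/
noncomputable def M0 : Subgroup H where
  carrier := {g | ∃ w ∈ D.WW, ∃ n ∈ D.N, g = w * n}
  one_mem' := ⟨1, one_mem _, 1, one_mem _, by simp⟩
  mul_mem' := by
    rintro _ _ ⟨w, hw, n, hn, rfl⟩ ⟨w', hw', n', hn', rfl⟩
    exact ⟨w * (n * w' * n⁻¹), mul_mem hw (D.WW_norm (D.N_le_Nf hn) hw'), n * n', mul_mem hn hn', by group⟩
  inv_mem' := by
    rintro _ ⟨w, hw, n, hn, rfl⟩
    exact ⟨n⁻¹ * w⁻¹ * n⁻¹⁻¹, D.WW_norm (inv_mem (D.N_le_Nf hn)) (inv_mem hw), n⁻¹, inv_mem hn, by group⟩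

theorem WW_le_M0 : D.WW ≤ D.M0 := fun w hw => ⟨w, hw, 1, one_mem _, by simp⟩

theorem N_le_M0 : D.N ≤ D.M0 := fun n hn => ⟨1, one_mem _, n, hn, by simp⟩

theorem E_le_M0 : D.E ≤ D.M0 := D.E_le_N.trans D.N_le_M0

theorem M0_le_Mt : D.M0 ≤ D.Mt := by
  rintro _ ⟨w, hw, n, hn, rfl⟩
  exact ⟨w, hw, n, D.N_le_Nf hn, rfl⟩

theorem WW_le_Mt : D.WW ≤ D.Mt := D.WW_le_M0.trans D.M0_le_Mt

theorem Nf_le_Mt : D.Nf ≤ D.Mt := fun n hn => ⟨1, one_mem _, n, hn, by simp⟩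

theorem E_le_Mt : D.E ≤ D.Mt := D.E_le_M0.trans D.M0_le_Mt

theorem M0_normal {m g : H} (hm : m ∈ D.Mt) (hg : g ∈ D.M0) : m * g * m⁻¹ ∈ D.M0 := by
  obtain ⟨w, hw, n, hn, rfl⟩ := hm
  obtain ⟨w', hw', n', hn', rfl⟩ := hg
  have h1 : n * (w' * n') * n⁻¹ ∈ D.M0 :=
    ⟨n * w' * n⁻¹, D.WW_norm hn hw', n * n' * n⁻¹, D.N_normal hn hn', by group⟩
  rw [show w * n * (w' * n') * (w * n)⁻¹ = w * (n * (w' * n') * n⁻¹) * w⁻¹ by group]
  exact mul_mem (mul_mem (D.WW_le_M0 hw) h1) (inv_mem (D.WW_le_M0 hw))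

theorem cent_three (s t : Bool) : centralizer ({D.y s t} : Set H) ≤ D.Mt := fun c hc => by
  obtain ⟨w, hw, n, hn, rfl⟩ := D.centY hc
  exact mul_mem (D.WW_le_Mt (D.W_le_WW s t hw)) (D.Nf_le_Mt hn)

theorem mem_WW_of_π {r : H} (h : D.π r ∈ D.U) : r ∈ D.WW := by
  obtain ⟨w, hw, e⟩ := h
  rcases D.π_eq.1 e with rfl | rfl
  · exact hw
  · have := mul_mem hw (inv_mem D.z_mem_WW)
    rwa [mul_inv_cancel_right] at this

theorem cent_two {a b c : ℕ} {R : Subgroup H}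
    (hR : Nat.card R = 32) (hz : D.z ∈ R) (hRle : R ≤ centralizer ({D.ev a b c} : Set H))
    (hRn : ∀ g ∈ centralizer ({D.ev a b c} : Set H), ∀ r ∈ R, g * r * g⁻¹ ∈ R)
    (hdec : ∀ g ∈ centralizer ({D.ev a b c} : Set H), ∃ r ∈ R, ∀ k, r⁻¹ * g * D.e k * (r⁻¹ * g)⁻¹ ∈ D.E)
    {s t s' t' : Bool} (hne : (s, t) ≠ (s', t')) (hp : 3 ∣ a + b * pw s + c * pw t)
    (hq : 3 ∣ a + b * pw s' + c * pw t') : centralizer ({D.ev a b c} : Set H) ≤ D.Mt := fun g hg => by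
  obtain ⟨r, hr, h⟩ := hdec g hg
  have hrW : r ∈ D.WW := D.mem_WW_of_π (by
    obtain ⟨x, hx, x', hx', e⟩ := (D.pair_core hR hz hRle hRn hdec hne hp hq).2 r hr
    rw [e]
    exact mul_mem (D.WX_le_U _ _ hx) (D.WX_le_U _ _ hx'))
  rw [← mul_inv_cancel_left r g]
  exact mul_mem (D.WW_le_Mt hrW) (D.Nf_le_Mt (D.mem_Nf h))

theorem cent_unit {a b c : ℕ} (ha : a < 3) (hb : b < 3) (hc : c < 3)
    (h1 : a = 1 ∨ (a = 0 ∧ (b = 1 ∨ (b = 0 ∧ c = 1)))) :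
    centralizer ({D.ev a b c} : Set H) ≤ D.Mt := by
  have one : ∀ i, centralizer ({D.e i} : Set H) ≤ D.Mt := fun i g hg =>
    D.Nf_le_Mt (D.mem_Nf fun j => D.one_norm i j g hg)
  have pwb : ∀ n, n < 3 → n ≠ 0 → ∃ r, n = pw r := fun n h1 h2 => by
    rcases (show n = 1 ∨ n = 2 by omega) with rfl | rfl
    exacts [⟨false, rfl⟩, ⟨true, rfl⟩]
  rcases h1 with rfl | ⟨rfl, rfl | ⟨rfl, rfl⟩⟩
  · by_cases hb0 : b = 0
    · subst hb0
      by_cases hc0 : c = 0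
      · subst hc0; rw [D.ev_e0, pow_one]; exact one 0
      · obtain ⟨r, rfl⟩ := pwb c hc hc0
        obtain ⟨R, g1, g2, g3, g4, g5⟩ := D.two_ev 0 2 (by decide) r (D.ev02 r)
        exact D.cent_two g1 g2 g3 g4 g5 (s := false) (t := !r) (s' := true) (t' := !r) (by simp)
          (by cases r <;> simp [pw]) (by cases r <;> simp [pw])
    · obtain ⟨r, rfl⟩ := pwb b hb hb0
      by_cases hc0 : c = 0
      · subst hc0
        obtain ⟨R, g1, g2, g3, g4, g5⟩ := D.two_ev 0 1 (by decide) r (D.ev01 r)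
        exact D.cent_two g1 g2 g3 g4 g5 (s := !r) (t := false) (s' := !r) (t' := true) (by simp)
          (by cases r <;> simp [pw]) (by cases r <;> simp [pw])
      · obtain ⟨r', rfl⟩ := pwb c hc hc0
        rw [← D.y_ev]; exact D.cent_three r r'
  · by_cases hc0 : c = 0
    · subst hc0; rw [D.ev_e1, pow_one]; exact one 1
    · obtain ⟨r, rfl⟩ := pwb c hc hc0
      obtain ⟨R, g1, g2, g3, g4, g5⟩ := D.two_ev 1 2 (by decide) r (D.ev12 r)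
      exact D.cent_two g1 g2 g3 g4 g5 (s := false) (t := !r) (s' := true) (t' := r) (by simp)
        (by cases r <;> simp [pw]) (by cases r <;> simp [pw])
  · rw [D.ev_e2, pow_one]; exact one 2

theorem cent_E_le {x : H} (hx : x ∈ D.E) (h1 : x ≠ 1) : centralizer ({x} : Set H) ≤ D.Mt := by
  obtain ⟨a, b, c, rfl⟩ := D.mem_E.1 hx
  rw [D.ev_mod] at h1 ⊢
  set a' := a % 3
  set b' := b % 3
  set c' := c % 3
  have la : a' < 3 := Nat.mod_lt _ (by norm_num)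
  have lb : b' < 3 := Nat.mod_lt _ (by norm_num)
  have lc : c' < 3 := Nat.mod_lt _ (by norm_num)
  by_cases hu : a' = 1 ∨ (a' = 0 ∧ (b' = 1 ∨ (b' = 0 ∧ c' = 1)))
  · exact D.cent_unit la lb lc hu
  · have h0 : ¬ (a' = 0 ∧ b' = 0 ∧ c' = 0) := by
      rintro ⟨e1, e2, e3⟩
      exact h1 (by rw [e1, e2, e3]; exact D.ev_zero)
    refine le_trans ?_ (D.cent_unit (a := 2 * a' % 3) (b := 2 * b' % 3) (c := 2 * c' % 3)
      (Nat.mod_lt _ (by norm_num)) (Nat.mod_lt _ (by norm_num)) (Nat.mod_lt _ (by norm_num)) (by omega))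
    intro g hg
    refine mem_centralizer_singleton_iff.2 ?_
    rw [← D.ev_mod, two_mul, two_mul, two_mul, ← D.ev_mul]
    exact (Commute.mul_right (mem_centralizer_singleton_iff.1 hg) (mem_centralizer_singleton_iff.1 hg)).eq

theorem relIndex_M0 : ¬ 3 ∣ D.E.relIndex D.M0 := by
  haveI : Fact (Nat.Prime 2) := ⟨Nat.prime_two⟩
  have hW : IsPGroup 2 D.WW := IsPGroup.of_card (n := 9) D.card_WW
  have hT : D.T ≤ normalizer (D.WW : Set H) := fun t ht => mem_normalizer_iff.2 fun w =>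
    ⟨D.WW_norm (D.N_le_Nf (D.T_le ht)), fun h => by
      have := D.WW_norm (inv_mem (D.N_le_Nf (D.T_le ht))) h
      rwa [show t⁻¹ * (t * w * t⁻¹) * t⁻¹⁻¹ = w by group] at this⟩
  have hP : IsPGroup 2 ↥(D.T ⊔ D.WW) := IsPGroup.to_sup_of_normal_right' D.T_two hW hT
  have hPle : D.T ⊔ D.WW ≤ D.M0 := sup_le (D.T_le.trans D.N_le_M0) D.WW_le_M0
  let f : ↥(D.T ⊔ D.WW) × D.E → D.M0 := fun p => ⟨p.1.1 * p.2.1, mul_mem (hPle p.1.2) (D.E_le_M0 p.2.2)⟩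
  have hf : Function.Bijective f := by
    constructor
    · rintro ⟨⟨p, hp⟩, ⟨g, hg⟩⟩ ⟨⟨p', hp'⟩, ⟨g', hg'⟩⟩ h
      have h1 : p * g = p' * g' := congrArg Subtype.val h
      have h2 : p'⁻¹ * p = g' * g⁻¹ := by
        calc p'⁻¹ * p = p'⁻¹ * (p * g) * g⁻¹ := by group
          _ = _ := by rw [h1]; group
      have h3 := D.two_inter_E hP (mul_mem (inv_mem hp') hp) (h2 ▸ mul_mem hg' (inv_mem hg))
      have e1 : p' = p := inv_mul_eq_one.1 h3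
      subst e1
      simp only [Prod.mk.injEq, Subtype.mk.injEq]
      exact ⟨trivial, mul_left_cancel h1⟩
    · rintro ⟨_, w, hw, n, hn, rfl⟩
      obtain ⟨a, ha, t, ht, rfl⟩ := D.T_dec hn
      refine ⟨(⟨w * t, mul_mem (mem_sup_right hw) (mem_sup_left ht)⟩,
        ⟨t⁻¹ * a * t⁻¹⁻¹, D.Nf_conj (inv_mem (D.N_le_Nf (D.T_le ht))) ha⟩), Subtype.ext ?_⟩
      show w * t * (t⁻¹ * a * t⁻¹⁻¹) = w * (a * t)
      group
  obtain ⟨k, hk⟩ := IsPGroup.iff_card.1 hP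
  have hc : Nat.card D.M0 = 2 ^ k * 27 := by
    rw [← Nat.card_eq_of_bijective f hf, Nat.card_prod, hk, D.card_E]
  have h := Subgroup.card_mul_index (D.E.subgroupOf D.M0)
  rw [Nat.card_congr (subgroupOfEquivOfLe D.E_le_M0).toEquiv, D.card_E, hc] at h
  intro hd
  have h2 : 3 ∣ 2 ^ k := by
    have : (D.E.subgroupOf D.M0).index = 2 ^ k := by omega
    exact this ▸ hd
  exact absurd (Nat.Prime.dvd_of_dvd_pow Nat.prime_three h2) (by norm_num)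

theorem exists_P : ∃ P : Subgroup H, P ≤ D.Nf ∧ IsPGroup 3 P ∧ ¬ 3 ∣ P.relIndex D.Mt := by
  haveI : Fact (Nat.Prime 3) := ⟨Nat.prime_three⟩
  classical
  obtain ⟨P0⟩ : Nonempty (Sylow 3 D.Nf) := inferInstance
  set P := (P0 : Subgroup D.Nf).map D.Nf.subtype with hPdef
  have hP : IsPGroup 3 P := P0.isPGroup'.map _
  refine ⟨P, map_subtype_le _, hP, fun hd => ?_⟩
  set K := D.WW ⊓ D.Nf
  have hPM : P ≤ D.Mt := (map_subtype_le _).trans D.Nf_le_Mt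
  choose w hw n hn e using fun g : D.Mt => (g.2 : ∃ w ∈ D.WW, ∃ n ∈ D.Nf, (g : H) = w * n)
  let f : D.Mt × K → D.WW × D.Nf := fun p =>
    (⟨w p.1 * p.2.1, mul_mem (hw p.1) p.2.2.1⟩, ⟨p.2.1⁻¹ * n p.1, mul_mem (inv_mem p.2.2.2) (hn p.1)⟩)
  have hf : Function.Bijective f := by
    constructor
    · rintro ⟨g, k⟩ ⟨g', k'⟩ h
      have h1 : w g * k.1 = w g' * k'.1 := congrArg Subtype.val (Prod.ext_iff.1 h).1
      have h2 : k.1⁻¹ * n g = k'.1⁻¹ * n g' := congrArg Subtype.val (Prod.ext_iff.1 h).2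
      have hg : g = g' := Subtype.ext (by
        calc (g : H) = w g * k.1 * (k.1⁻¹ * n g) := by rw [e g]; group
          _ = w g' * k'.1 * (k'.1⁻¹ * n g') := by rw [h1, h2]
          _ = g' := by rw [e g']; group)
      subst hg
      exact Prod.ext rfl (Subtype.ext (mul_left_cancel h1))
    · rintro ⟨⟨a, ha⟩, ⟨b, hb⟩⟩
      set g : D.Mt := ⟨a * b, mul_mem (D.WW_le_Mt ha) (D.Nf_le_Mt hb)⟩
      have hk : (w g)⁻¹ * a = n g * b⁻¹ := by
        calc (w g)⁻¹ * a = (w g)⁻¹ * (g : H) * b⁻¹ := by show _ = (w g)⁻¹ * (a * b) * b⁻¹; group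
          _ = _ := by rw [e g]; group
      refine ⟨(g, ⟨(w g)⁻¹ * a, Subgroup.mem_inf.2 ⟨mul_mem (inv_mem (hw g)) ha, hk ▸ mul_mem (hn g) (inv_mem hb)⟩⟩), ?_⟩
      refine Prod.ext (Subtype.ext ?_) (Subtype.ext ?_)
      · show w g * ((w g)⁻¹ * a) = a
        group
      · show ((w g)⁻¹ * a)⁻¹ * n g = b
        rw [hk]; group
  have hc := Nat.card_eq_of_bijective f hf
  rw [Nat.card_prod, Nat.card_prod, D.card_WW] at hc
  have h1 := Subgroup.card_mul_index (P.subgroupOf D.Mt)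
  rw [Nat.card_congr (subgroupOfEquivOfLe hPM).toEquiv] at h1
  have h2 := Subgroup.card_mul_index (P0 : Subgroup D.Nf)
  have h3 : Nat.card P = Nat.card (P0 : Subgroup D.Nf) :=
    (Nat.card_congr ((P0 : Subgroup D.Nf).equivMapOfInjective _ D.Nf.subtype_injective).toEquiv).symm
  rw [← h1, ← h2, h3] at hc
  have key : (P.subgroupOf D.Mt).index * Nat.card K = 512 * (P0 : Subgroup D.Nf).index := by
    have hpos : 0 < Nat.card (P0 : Subgroup D.Nf) := Nat.card_pos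
    have h' : Nat.card (P0 : Subgroup D.Nf) * ((P.subgroupOf D.Mt).index * Nat.card K) =
        Nat.card (P0 : Subgroup D.Nf) * (512 * (P0 : Subgroup D.Nf).index) := by
      rw [← mul_assoc, hc]; ring
    exact Nat.eq_of_mul_eq_mul_left hpos h'
  have h5 : 3 ∣ 512 * (P0 : Subgroup D.Nf).index := key ▸ dvd_mul_of_dvd_left hd _
  rcases (Nat.Prime.dvd_mul Nat.prime_three).1 h5 with h6 | h6
  · norm_num at h6
  · exact P0.not_dvd_index h6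

theorem three_zpowers {a : H} (h3 : a ^ 3 = 1) : IsPGroup 3 (zpowers a) := by
  haveI : Fact (Nat.Prime 3) := ⟨Nat.prime_three⟩
  obtain ⟨n, -, hn⟩ := (Nat.dvd_prime_pow Nat.prime_three).1
    (orderOf_dvd_of_pow_eq_one (show a ^ 3 ^ 1 = 1 by simpa using h3))
  exact IsPGroup.of_card (n := n) (by rw [Nat.card_zpowers, hn])

theorem conj_Nf {a : H} (ha : a ∈ D.Mt) (h3 : a ^ 3 = 1) : ∃ m ∈ D.Mt, m * a * m⁻¹ ∈ D.Nf := by
  obtain ⟨P, hPN, hP, hi⟩ := D.exists_P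
  obtain ⟨m, hm, h⟩ := sylow_conj (hPN.trans D.Nf_le_Mt) hP hi (zpowers_le.2 ha) (three_zpowers h3)
  exact ⟨m, hm, hPN (h a (mem_zpowers a))⟩

theorem E_three : IsPGroup 3 D.E :=
  haveI : Fact (Nat.Prime 3) := ⟨Nat.prime_three⟩
  IsPGroup.of_card (n := 3) D.card_E

theorem conj_E {a : H} (ha : a ∈ D.M0) (h3 : a ^ 3 = 1) : ∃ m ∈ D.M0, m * a * m⁻¹ ∈ D.E := by
  obtain ⟨m, hm, h⟩ := sylow_conj D.E_le_M0 D.E_three D.relIndex_M0 (zpowers_le.2 ha) (three_zpowers h3)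
  exact ⟨m, hm, h a (mem_zpowers a)⟩

theorem outside_E {a h : H} (ha : a ∈ D.E) (h1 : a ≠ 1) (hb : h * a * h⁻¹ ∈ D.Nf) : h * a * h⁻¹ ∈ D.E :=
  D.outside a ha h1 h fun i => D.Nf_conj hb (D.e_mem i)

theorem fusion {a h : H} (ha : a ∈ D.E) (h1 : a ≠ 1) (hb : h * a * h⁻¹ ∈ D.E) : h ∈ D.Mt := by
  let E' := D.E.map (MulAut.conj h⁻¹).toMonoidHom
  have hE' : E' ≤ D.M0 := by
    rintro _ ⟨g, hg, rfl⟩
    show h⁻¹ * g * h⁻¹⁻¹ ∈ D.M0
    by_cases hg1 : g = 1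
    · rw [hg1, mul_one, mul_inv_cancel]; exact one_mem _
    have hx : h⁻¹ * g * h⁻¹⁻¹ ∈ D.Mt := D.cent_E_le ha h1 (mem_centralizer_singleton_iff.2 (by
      have e := D.E_comm hg hb
      calc h⁻¹ * g * h⁻¹⁻¹ * a = h⁻¹ * (g * (h * a * h⁻¹)) * h := by group
        _ = a * (h⁻¹ * g * h⁻¹⁻¹) := by rw [e]; group))
    obtain ⟨m, hm, hmN⟩ := D.conj_Nf hx (by rw [conj_pow, D.E_cube hg]; group)
    have e2 : m * (h⁻¹ * g * h⁻¹⁻¹) * m⁻¹ = m * h⁻¹ * g * (m * h⁻¹)⁻¹ := by group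
    rw [e2] at hmN
    have h3 := D.M0_normal (inv_mem hm) (D.E_le_M0 (D.outside_E hg hg1 hmN))
    rwa [← e2, show m⁻¹ * (m * (h⁻¹ * g * h⁻¹⁻¹) * m⁻¹) * m⁻¹⁻¹ = h⁻¹ * g * h⁻¹⁻¹ by group] at h3
  obtain ⟨c, hc, hcE⟩ := sylow_conj D.E_le_M0 D.E_three D.relIndex_M0 hE' (D.E_three.map _)
  have hn : c * h⁻¹ ∈ D.Nf := D.mem_Nf fun i => by
    have h4 := hcE (h⁻¹ * D.e i * h⁻¹⁻¹) ⟨D.e i, D.e_mem i, rfl⟩
    rwa [show c * (h⁻¹ * D.e i * h⁻¹⁻¹) * c⁻¹ = c * h⁻¹ * D.e i * (c * h⁻¹)⁻¹ by group] at h4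
  have := inv_mem (mul_mem (inv_mem (D.M0_le_Mt hc)) (D.Nf_le_Mt hn))
  rwa [inv_mul_cancel_left, inv_inv] at this

/-- An element of order three of the part without permutation is carried into the extended product only by
members. -/
theorem strong_lift {a h : H} (ha : a ∈ D.M0) (h3 : a ^ 3 = 1) (h1 : a ≠ 1) (hb : h * a * h⁻¹ ∈ D.Mt) :
    h ∈ D.Mt := by
  obtain ⟨m, hm, hmE⟩ := D.conj_E ha h3
  obtain ⟨m', hm', hmN'⟩ := D.conj_Nf hb (by rw [conj_pow, h3]; group)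
  have hne : m * a * m⁻¹ ≠ 1 := fun e => h1 (by rw [mul_inv_eq_one] at e; exact mul_eq_left.1 e)
  have e : m' * h * m⁻¹ * (m * a * m⁻¹) * (m' * h * m⁻¹)⁻¹ = m' * (h * a * h⁻¹) * m'⁻¹ := by group
  have key := D.fusion (a := m * a * m⁻¹) (h := m' * h * m⁻¹) hmE hne
    (D.outside_E hmE hne (e ▸ hmN'))
  have := mul_mem (mul_mem (inv_mem hm') key) (D.M0_le_Mt hm)
  rwa [show m'⁻¹ * (m' * h * m⁻¹) * m = h by group] at this

end Data

end Cfsg.Agent.O8Three.Cube
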